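import Groth.Prelude.Def_HensSch
import Groth.Agent.Lib.Hens.PairOps
import Mathlib.RingTheory.Localization.Away.Basic

/-!
Algebra of Henselizations `IsHensAway` used for Henselian schemes.
-/

universe u

open Polynomial

namespace Groth.Agent.HensSchH7

variable {A : Type u} [CommRing A]

/-- Two roots congruent to a simple approximate root are equal. -/
theorem root_unique {K : Ideal A} (hK : K ≤ Ideal.jacobson ⊥) {f : A[X]} {a₀ a b : A}
    (ha : f.IsRoot a) (haK : a - a₀ ∈ K) (hb : f.IsRoot b) (hbK : b - a₀ ∈ K)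
    (hu : IsUnit (Ideal.Quotient.mk K (f.derivative.eval a₀))) : a = b := by
  obtain ⟨k, hk⟩ := exists_mul_sq_add_linear_part_eq_eval_add f a (b - a)
  rw [add_sub_cancel, hb.eq_zero, ha.eq_zero, add_zero] at hk
  have hba : b - a ∈ K := by simpa using sub_mem hbK haK
  have hunit : IsUnit (f.derivative.eval a + k * (b - a)) := by
    refine Hens.isUnit_of_isUnit_mk hK ?_
    rw [map_add, Ideal.Quotient.eq_zero_iff_mem.mpr (K.mul_mem_left k hba), add_zero,
      ← eval₂_at_apply, Ideal.Quotient.eq.mpr haK, eval₂_at_apply]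
    exact hu
  exact (sub_eq_zero.mp (hunit.mul_right_eq_zero.mp (by linear_combination hk))).symm

/-- Transport of a Henselian pair along an isomorphism. -/
theorem henselianRing_equiv {B : Type u} [CommRing B] (e : A ≃+* B) {K : Ideal B}
    (h : HenselianRing B K) : HenselianRing A (K.comap e.toRingHom) where
  jac := by
    intro x hx
    refine Ideal.mem_jacobson_bot.mpr fun y => ?_
    have := Ideal.mem_jacobson_bot.mp (h.jac (Ideal.mem_comap.mp hx)) (e y)
    have := this.map e.symm.toRingHom
    simpa using this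
  is_henselian f hf a₀ h₀ h₁ := by
    have hev : ∀ (q : A[X]) (x : A), (q.map e.toRingHom).eval (e x) = e (q.eval x) := fun q x => by
      rw [eval_map, show e x = e.toRingHom x from rfl, eval₂_at_apply]; rfl
    have hu : IsUnit (Ideal.Quotient.mk K (e (f.derivative.eval a₀))) := by
      have hu := h₁.map (Ideal.quotientMap K e.toRingHom le_rfl)
      rwa [Ideal.quotientMap_mk] at hu
    obtain ⟨b, hb, hbK⟩ := h.is_henselian (f.map e.toRingHom) (hf.map _) (e a₀)
      (by rw [hev]; exact h₀) (by rw [derivative_map, hev]; exact hu)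
    refine ⟨e.symm b, e.injective ?_, ?_⟩
    · rw [← hev, e.apply_symm_apply, map_zero]; exact hb
    · rw [Ideal.mem_comap]
      simpa using hbK

variable {I : Ideal A} {f : A} {B : Type u} [CommRing B] {φ : A →+* B}

/-- Modulo `I`, the Henselization of `(A_f, I A_f)` is a quotient of `A_f`. -/
theorem exists_approx (h : HensSch.IsHensAway A I f B φ) (b : B) :
    ∃ (a : A) (n : ℕ), b * φ f ^ n - φ a ∈ I.map φ := by
  suffices aux : ∀ (L : Type u) [CommRing L] [Algebra A L] [IsLocalization.Away f L]
      (Q : Type u) [CommRing Q] (q : B →+* Q) (ψ : L →+* Q),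
      ψ.comp (algebraMap A L) = q.comp φ → (∀ x ∈ I, q (φ x) = 0) → q b ∈ ψ.range by
    let m := Ideal.Quotient.mk (I.map φ)
    have hum : IsUnit ((m.comp φ) f) := h.1.map m
    obtain ⟨z, hz⟩ := aux (Localization.Away f) (B ⧸ I.map φ) m
      (IsLocalization.Away.lift f hum) (IsLocalization.Away.lift_comp f hum)
      (fun x hx => Ideal.Quotient.eq_zero_iff_mem.mpr (Ideal.mem_map_of_mem _ hx))
    obtain ⟨n, a, ha⟩ := IsLocalization.Away.surj f z
    refine ⟨a, n, ?_⟩
    rw [← Ideal.Quotient.eq]
    have := congr(IsLocalization.Away.lift f hum $ha)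
    rw [map_mul, map_pow, hz, IsLocalization.Away.lift_eq f hum a,
      IsLocalization.Away.lift_eq f hum f] at this
    simpa [m] using this
  intro L _ _ _ Q _ q ψ hψ hI
  obtain ⟨hu, -, huniv⟩ := h
  have hq : ∀ x, ψ (algebraMap A L x) = q (φ x) := fun x => congr($hψ x)
  obtain ⟨k, hk, -⟩ := huniv ψ.range ⊥ (ψ.rangeRestrict.comp (algebraMap A L))
    Hens.henselianRing_bot (by
      rw [Ideal.map_le_iff_le_comap]
      intro x hx
      rw [Ideal.mem_comap, Ideal.mem_bot]
      refine Subtype.ext ?_
      show ψ (algebraMap A L x) = 0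
      rw [hq, hI x hx])
    ((IsLocalization.Away.algebraMap_isUnit f).map ψ.rangeRestrict)
  obtain ⟨m', -, hm'u⟩ := huniv Q ⊥ (q.comp φ) Hens.henselianRing_bot (by
      rw [Ideal.map_le_iff_le_comap]
      intro x hx
      rw [Ideal.mem_comap, Ideal.mem_bot]
      exact hI x hx) (hu.map q)
  have e : ψ.range.subtype.comp k = q := by
    rw [hm'u (ψ.range.subtype.comp k) (RingHom.ext fun x => by
      show ((k (φ x) : ψ.range) : Q) = q (φ x)
      rw [show k (φ x) = ψ.rangeRestrict (algebraMap A L x) from congr($hk x)]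
      exact hq x), hm'u q rfl]
  rw [← e]
  exact (k b).2

end Groth.Agent.HensSchH7
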