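import Groth.Agent.Lib.HensSchH7.AdicUnit
import Groth.Agent.Lib.ClSub24.Proper
import Groth.Agent.S4473

/-!
# Coherent modules on a proper scheme and on its adic Henselization have the same maps
-/

set_option autoImplicit false
set_option linter.style.haveILetI false
set_option backward.isDefEq.respectTransparency false
set_option backward.isDefEq.respectTransparency.types false
universe u

open CategoryTheory CategoryTheory.Limits Opposite TopologicalSpace Topology AlgebraicGeometry

namespace Groth.Agent.HensSchH7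

open ModFlat16

section Model

variable {X : Scheme.{u}} {Xh : LocallyRingedSpace.{u}} (ι : Xh ⟶ X.toLocallyRingedSpace)

theorem tau_naturality {G H : X.Modules} (φ : G ⟶ H) :
    φ ≫ tau ι H = tau ι G ≫ (HensSch.rmor ι).push.map (mapSh (f := HensSch.rmor ι) φ) :=
  (toPush_descSh (f := HensSch.rmor ι) _).symm

theorem pull_eq_of_comp_tau {F G : X.Modules} {φ ψ : F ⟶ G} (h : φ ≫ tau ι G = ψ ≫ tau ι G) :
    (HensSch.pullMod ι).map φ = (HensSch.pullMod ι).map ψ := by
  have h' : mapSh (f := HensSch.rmor ι) φ = mapSh (f := HensSch.rmor ι) ψ :=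
    congrArg (fun q => descSh (f := HensSch.rmor ι) q) h
  show (HensSch.rmor ι).pull.map φ = (HensSch.rmor ι).pull.map ψ
  rw [pull_map_eq, pull_map_eq, h']

end Model

variable {A : Type u} [CommRing A] [IsNoetherianRing A] (I : Ideal A) [IsAdicComplete I A]
  {X : Scheme.{u}} [X.Over (Spec (CommRingCat.of A))] [IsProper (X ↘ Spec (CommRingCat.of A))]
  {Xh : LocallyRingedSpace.{u}} {ι : Xh ⟶ X.toLocallyRingedSpace}
  (hh : HensSch.IsHenselizationAlong X
    ((X ↘ Spec (CommRingCat.of A)).base ⁻¹' PrimeSpectrum.zeroLocus (I : Set A)) Xh ι)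

omit [IsNoetherianRing A] [IsAdicComplete I A] in
theorem isProperOver_of_isClosed {Z : Set X} (hZ : IsClosed Z) :
    ClSub.IsProperOver (X ↘ Spec (CommRingCat.of A)) Z := by
  refine ⟨hZ, ?_⟩
  infer_instance

omit [IsNoetherianRing A] [IsAdicComplete I A] in
theorem closed_points_mem [HenselianRing A I] (x : X) (hx : IsClosed ({x} : Set X)) :
    x ∈ (X ↘ Spec (CommRingCat.of A)).base ⁻¹' PrimeSpectrum.zeroLocus (I : Set A) := by
  have h1 : IsClosed ({(X ↘ Spec (CommRingCat.of A)).base x} : Set (PrimeSpectrum A)) := by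
    have := (X ↘ Spec (CommRingCat.of A)).isClosedMap _ hx
    rwa [Set.image_singleton] at this
  have hm : ((X ↘ Spec (CommRingCat.of A)).base x).asIdeal.IsMaximal :=
    (PrimeSpectrum.isClosed_singleton_iff_isMaximal _).mp h1
  exact le_trans HenselianRing.jac (sInf_le ⟨bot_le, hm⟩)

include hh in
/-- Maps into the direct image of the inverse image come from maps of coherent modules. -/
theorem exists_comp_tau_eq [IsLocallyNoetherian X] {F G : X.Modules} (hF : Coh.IsCoh F) (hG : Coh.IsCoh G)
    (ω : F ⟶ ((HensSch.pushMod ι).obj (PS ι G) : X.Modules)) : ∃ φ : F ⟶ G, φ ≫ tau ι G = ω := by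
  let N : ℕ → X.Modules := fun n => Formal.modPow I (n + 1) G
  haveI : ∀ n, IsIso (tau ι (N n)) := fun n => isIso_tau I hh (FormalH7.killedBy_modPow I (n + 1) G)
  let p : ∀ n, ((HensSch.pushMod ι).obj (PS ι G) : X.Modules) ⟶ (HensSch.pushMod ι).obj (PS ι (N n)) :=
    fun n => (HensSch.rmor ι).push.map (mapSh (f := HensSch.rmor ι) (Formal.modPowπ I (n + 1) G))
  let Ψ : ∀ n, F ⟶ N n := fun n => ω ≫ p n ≫ inv (tau ι (N n))
  have hΨ : ∀ n, Ψ n ≫ tau ι (N n) = ω ≫ p n := fun n => by
    simp only [Ψ, Category.assoc, IsIso.inv_hom_id, Category.comp_id]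
  have hcompat : ∀ n, Ψ (n + 1) ≫ Formal.modPowTrans I (n + 1) G = Ψ n := fun n => by
    rw [← cancel_mono (tau ι (N n)), hΨ, Category.assoc, tau_naturality ι (Formal.modPowTrans I (n + 1) G),
      ← Category.assoc, hΨ, Category.assoc]
    refine congrArg (ω ≫ ·) ?_
    refine ((HensSch.rmor ι).push.map_comp _ _).symm.trans (congrArg _ ?_)
    apply hom_ext_cls (f := HensSch.rmor ι)
    rw [Functor.map_comp, ← Category.assoc]
    refine (congrArg (· ≫ _) (tau_naturality ι (Formal.modPowπ I (n + 1 + 1) G)).symm).trans ?_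
    refine ((Category.assoc _ _ _).trans ?_).trans (tau_naturality ι (Formal.modPowπ I (n + 1) G))
    refine (congrArg (_ ≫ ·) (tau_naturality ι (Formal.modPowTrans I (n + 1) G)).symm).trans ?_
    exact (Category.assoc _ _ _).symm.trans (congrArg (· ≫ _) (Formal.modPowπ_trans I (n + 1) G))
  let χ : ∀ n, Formal.modPow I (n + 1) F ⟶ Formal.modPow I (n + 1) G := fun n =>
    cokernel.desc _ (Ψ n) (FormalH7.smulFamily_comp_of_killed _ (FormalH7.killedBy_modPow I (n + 1) G))
  have hπχ : ∀ n, Formal.modPowπ I (n + 1) F ≫ χ n = Ψ n := fun n => cokernel.π_desc _ _ _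
  let ψ : Formal.completion I F ⟶ Formal.completion I G := NatTrans.ofOpSequence χ fun n => by
    haveI : Epi (Formal.modPowπ I (n + 1 + 1) F) := FormalH7.epi_modPowπ I (n + 1 + 1) F
    rw [show (Formal.completion I F).map (homOfLE (Nat.le_succ n)).op = Formal.modPowTrans I (n + 1) F from
      Functor.ofOpSequence_map_homOfLE_succ _ n,
      show (Formal.completion I G).map (homOfLE (Nat.le_succ n)).op = Formal.modPowTrans I (n + 1) G from
      Functor.ofOpSequence_map_homOfLE_succ _ n]
    refine (cancel_epi (Formal.modPowπ I (n + 1 + 1) F)).1 ?_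
    refine (Category.assoc _ _ _).symm.trans ((congrArg (· ≫ χ n) (Formal.modPowπ_trans I (n + 1) F)).trans ?_)
    refine (hπχ n).trans ((hcompat n).symm.trans ?_)
    exact (congrArg (· ≫ _) (hπχ (n + 1)).symm).trans (Category.assoc _ _ _)
  obtain ⟨φ, hφ, -⟩ := Groth.Agent.S4473.result A I X F G hF hG
    (isProperOver_of_isClosed ((M1.isClosed_support hF.2).inter (M1.isClosed_support hG.2))) ψ
  refine ⟨φ, Scheme.Modules.hom_ext _ _ fun U => ?_⟩
  ext m
  refine sub_eq_zero.mp (eq_zero_of_levels I hh hG (W := (Opens.map ι.base).obj U)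
    (((φ ≫ tau ι G).app U m - ω.app U m :) : ModSite.sect (PS ι G) ((Opens.map ι.base).obj U)) fun n => ?_)
  have h1 : (φ ≫ tau ι G) ≫ p n = ω ≫ p n := by
    rw [Category.assoc, ← hΨ, ← hπχ]
    refine (congrArg (φ ≫ ·) (tau_naturality ι (Formal.modPowπ I (n + 1) G)).symm).trans ?_
    exact (Category.assoc _ _ _).symm.trans (congrArg (· ≫ tau ι (N n)) (hφ n).symm)
  refine (map_sub _ _ _).trans (sub_eq_zero.mpr ?_)
  exact congrArg (fun q : F ⟶ ((HensSch.pushMod ι).obj (PS ι (N n)) : X.Modules) => q.app U m) h1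

include hh in
/-- Composition with the unit is bijective on maps of coherent modules. -/
theorem bijective_comp_tau [HenselianRing A I] {F G : X.Modules} (hF : Coh.IsCoh F) (hG : Coh.IsCoh G) :
    Function.Bijective fun φ : F ⟶ G => φ ≫ tau ι G := by
  haveI : IsLocallyNoetherian X :=
    LocallyOfFiniteType.isLocallyNoetherian (X ↘ Spec (CommRingCat.of A))
  haveI : CompactSpace X := QuasiCompact.compactSpace_of_compactSpace (X ↘ Spec (CommRingCat.of A))
  haveI : Coh.IsQCoh F := hF.1
  exact ⟨fun φ ψ h => pullMod_map_injective (fun x hx => closed_points_mem I x hx) hh F G φ ψ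
    (pull_eq_of_comp_tau ι h), exists_comp_tau_eq I hh hF hG⟩

include hh in
/-- The inverse image is fully faithful on coherent modules. -/
theorem pullMod_map_bijective [HenselianRing A I] {F G : X.Modules} (hF : Coh.IsCoh F) (hG : Coh.IsCoh G) :
    Function.Bijective ((HensSch.pullMod ι).map :
      (F ⟶ G) → ((HensSch.pullMod ι).obj F ⟶ (HensSch.pullMod ι).obj G)) := by
  haveI : IsLocallyNoetherian X :=
    LocallyOfFiniteType.isLocallyNoetherian (X ↘ Spec (CommRingCat.of A))
  haveI : CompactSpace X := QuasiCompact.compactSpace_of_compactSpace (X ↘ Spec (CommRingCat.of A))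
  haveI : Coh.IsQCoh F := hF.1
  refine ⟨fun φ ψ h => pullMod_map_injective (fun x hx => closed_points_mem I x hx) hh F G φ ψ h,
    fun θ => ?_⟩
  let f := HensSch.rmor ι
  let θ' : PS ι F ⟶ PS ι G := (pullPresIso f F).inv ≫ θ ≫ (pullPresIso f G).hom
  obtain ⟨φ, hφ⟩ := exists_comp_tau_eq I hh hF hG (tau ι F ≫ f.push.map θ')
  have h1 : mapSh (f := f) φ = θ' := hom_ext_cls ((tau_naturality ι φ).symm.trans hφ)
  refine ⟨φ, ?_⟩
  show f.pull.map φ = θ
  rw [pull_map_eq, h1]
  simp only [θ', Category.assoc, Iso.hom_inv_id, Category.comp_id, Iso.hom_inv_id_assoc]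

include hh in
/-- The unit is bijective on global sections. -/
theorem unit_app_top_bijective [HenselianRing A I] {F : X.Modules} (hF : Coh.IsCoh F) :
    Function.Bijective (((HensSch.pullPushAdj ι).unit.app F).val.app (op ⊤)) := by
  haveI : IsLocallyNoetherian X :=
    LocallyOfFiniteType.isLocallyNoetherian (X ↘ Spec (CommRingCat.of A))
  let f := HensSch.rmor ι
  have hb := bijective_comp_tau I hh (M1.isCoh_structureModule X) hF
  have h0 : Function.Bijective ((tau ι F).app ⊤) := by
    refine ⟨fun m m' e => ?_, fun t => ?_⟩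
    · have : M1.secHom m = M1.secHom m' := hb.1 (M1.unit_hom_ext (by
        show (tau ι F).app ⊤ ((M1.secHom m).app ⊤ (M1.one ⊤)) = (tau ι F).app ⊤ ((M1.secHom m').app ⊤ (M1.one ⊤))
        rw [M1.secHom_app_one, M1.secHom_app_one, e]))
      have h2 := congrArg (fun q => Scheme.Modules.Hom.app q ⊤ (M1.one ⊤)) this
      simpa only [M1.secHom_app_one] using! h2
    · obtain ⟨φ, hφ⟩ := hb.2 (M1.secHom t)
      refine ⟨φ.app ⊤ (M1.one ⊤), ?_⟩
      exact (congrArg (fun q => Scheme.Modules.Hom.app q ⊤ (M1.one ⊤)) hφ).trans (M1.secHom_app_one t)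
  let e := (pullPresIso f (F : ModSite.Mod X.toLocallyRingedSpace.sheaf))
  have h1 : ((HensSch.pullPushAdj ι).unit.app F) = tau ι F ≫ f.push.map e.inv :=
    (toPush_descSh (f := f) (f.adj.unit.app F)).symm
  rw [h1]
  have h2 : Function.Bijective ((f.push.map e.inv : _ ⟶ _).val.app (op (⊤ : X.Opens))) :=
    ConcreteCategory.bijective_of_isIso (((SheafOfModules.forget _ ⋙ PresheafOfModules.evaluation _ _).map
      (f.push.map e.inv)))
  exact h2.comp h0

end Groth.Agent.HensSchH7
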