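import Groth.Agent.Lib.HensSchH7.FlatPull
import Groth.Agent.Lib.HomShH7.FullFaith
import Groth.Agent.Lib.HensH7.PairNoetherian

/-!
# Opens over which the sections of an adic Henselization are Noetherian and adically dense
-/

set_option autoImplicit false
set_option backward.isDefEq.respectTransparency false
universe u

open CategoryTheory Opposite TopologicalSpace Topology AlgebraicGeometry

namespace Groth.Agent.HensSchH7

/-- Algebra of the sections over a distinguished open of a Henselian spectrum. -/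
theorem sph_pair_data (R : CommRingCat.{u}) [IsNoetherianRing R] (f : R) {P : Type u} [CommRing P]
    (φ : Γ(Spec R, PrimeSpectrum.basicOpen f) →+* P) {I K : Ideal R}
    (h : HensSch.IsHensAway R I f P (φ.comp (algebraMap R Γ(Spec R, PrimeSpectrum.basicOpen f))))
    (hKI : K ≤ I) (hIK : I ≤ K.radical) :
    IsNoetherianRing P ∧
      K.map (φ.comp (algebraMap R Γ(Spec R, PrimeSpectrum.basicOpen f))) ≤ Ideal.jacobson ⊥ ∧
      ∀ (n : ℕ) (v : P), ∃ s, v - φ s ∈
        K.map (φ.comp (algebraMap R Γ(Spec R, PrimeSpectrum.basicOpen f))) ^ n := by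
  let S := Γ(Spec R, PrimeSpectrum.basicOpen f)
  let ψ : R →+* P := φ.comp (algebraMap R S)
  letI : Algebra R P := ψ.toAlgebra
  have hP : HensGlue6.IsAway I f P := h
  obtain ⟨_, _, hp⟩ := hP.exists_pair
  let L := Localization.Away f
  haveI : IsNoetherianRing L := IsLocalization.isNoetherianRing (.powers f) L inferInstance
  refine ⟨?_, fun x hx => ?_, fun n v => ?_⟩
  · obtain ⟨e⟩ := Hens.exists_pairHenselization_equiv (I.map (algebraMap R L)) P hp
    haveI := HensH7.isNoetherianRing_pHs (I := I.map (algebraMap R L))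
    exact isNoetherianRing_of_ringEquiv (Hens.PHs (I.map (algebraMap R L))) e.toRingEquiv
  · exact h.2.1.jac (Ideal.map_mono hKI hx)
  · let c : L →+* S := IsLocalization.Away.lift f (spec_away_unit R f)
    have hc : φ.comp c = algebraMap L P :=
      IsLocalization.ringHom_ext (Submonoid.powers f) (by
        rw [RingHom.comp_assoc, show c.comp (algebraMap R L) = algebraMap R S from
          IsLocalization.Away.lift_comp f (spec_away_unit R f), ← IsScalarTower.algebraMap_eq]
        rfl)
    obtain ⟨y, hy⟩ := (Hens.IsPairHenselization.quotientMap_bijective hp ((K.map (algebraMap R L)) ^ n)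
      (by
        rcases Nat.eq_zero_or_pos n with rfl | hn
        · rw [pow_zero, Ideal.one_eq_top, Ideal.radical_top]
          exact le_top
        · rw [Ideal.radical_pow _ hn.ne']
          exact (Ideal.map_mono hIK).trans (Ideal.map_radical_le _))).2 (Ideal.Quotient.mk _ v)
    obtain ⟨l, rfl⟩ := Ideal.Quotient.mk_surjective y
    refine ⟨c l, ?_⟩
    rw [Ideal.quotientMap_mk, Ideal.Quotient.eq, Ideal.map_pow, Ideal.map_map,
      ← IsScalarTower.algebraMap_eq, ← hc] at hy
    rw [← neg_sub]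
    exact neg_mem hy
where
  spec_away_unit (R : CommRingCat.{u}) (f : R) :
      IsUnit (algebraMap R Γ(Spec R, PrimeSpectrum.basicOpen f) f) :=
    IsLocalization.Away.algebraMap_isUnit (S := Γ(Spec R, PrimeSpectrum.basicOpen f)) f

variable {A : Type u} [CommRing A] (I : Ideal A) {X : Scheme.{u}} [X.Over (Spec (CommRingCat.of A))]
  {Xh : LocallyRingedSpace.{u}} (ι : Xh ⟶ X.toLocallyRingedSpace)

/-- The ideal of `I` in the sections of `Xh` over an open. -/
noncomputable abbrev idlH (O : X.Opens) : Ideal (Sec Xh ((Opens.map ι.base).obj O)) :=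
  (HomShH7.idl I O).map (appLE ι O ((Opens.map ι.base).obj O) le_rfl)

/-- `O` is affine, and its sections upstairs are Noetherian, with `I` small, and dense. -/
structure Nice (O : X.Opens) : Prop where
  affine : IsAffineOpen O
  noeth : IsNoetherianRing (Sec Xh ((Opens.map ι.base).obj O))
  jac : idlH I ι O ≤ Ideal.jacobson ⊥
  dense : ∀ (n : ℕ) (v : Sec Xh ((Opens.map ι.base).obj O)), ∃ a : Γ(X, O),
    v - appLE ι O ((Opens.map ι.base).obj O) le_rfl a ∈ idlH I ι O ^ n

theorem toGlobal_appLE {A' : Type u} [CommRing A'] (j : Spec (CommRingCat.of A') ⟶ X)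
    (κ : CommRingCat.of A ⟶ CommRingCat.of A')
    (hκ : Spec.map κ = j ≫ X ↘ Spec (CommRingCat.of A)) {O : X.Opens}
    {D : Opens (HensSch.specLRS A')} (e : D ≤ (Opens.map j.toLRSHom.base).obj O) (a : A) :
    appLE j.toLRSHom O D e (FormalH7.multHom X O a) = toSec A' D (κ a) := by
  have h1 : j.appTop (Coh.toGlobal (X ↘ Spec (CommRingCat.of A)) a) =
      (Scheme.ΓSpecIso (CommRingCat.of A')).inv (κ a) := by
    refine Eq.trans ?_ ((congrArg (fun q : Spec (CommRingCat.of A') ⟶ Spec (CommRingCat.of A) =>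
      q.appTop ((Scheme.ΓSpecIso (CommRingCat.of A)).inv a)) hκ.symm).trans ?_)
    · rfl
    · exact (ConcreteCategory.congr_hom (Scheme.ΓSpecIso_inv_naturality κ) a).symm
  refine (congr($(appLE_res j.toLRSHom (le_top : O ≤ ⊤) (W := D) e) _)).trans ?_
  exact congrArg (res (HensSch.specLRS A') (le_top : D ≤ ⊤)) h1

variable {ι}

/-- Chart opens are nice. -/
theorem nice_chart [IsLocallyNoetherian X]
    {A' : Type u} [CommRing A'] (j : Spec (CommRingCat.of A') ⟶ X) [IsOpenImmersion j]
    {V : LocallyRingedSpace.{u}} (v : V ⟶ Xh) [LocallyRingedSpace.IsOpenImmersion v]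
    (π : V ⟶ HensSch.specLRS A') (hr : Set.range v.base = ι.base ⁻¹' Set.range j.base)
    (hc : v ≫ ι = π ≫ j.toLRSHom)
    (hs : HensSch.IsSph A' (PrimeSpectrum.vanishingIdeal
      (j.base ⁻¹' ((X ↘ Spec (CommRingCat.of A)).base ⁻¹' PrimeSpectrum.zeroLocus (I : Set A)))) V π)
    (f : A') : Nice I ι (j ''ᵁ PrimeSpectrum.basicOpen f) := by
  let D : Opens (HensSch.specLRS A') := PrimeSpectrum.basicOpen f
  let O : Opens X.toLocallyRingedSpace := j ''ᵁ PrimeSpectrum.basicOpen f
  let O' : Opens Xh := (Opens.map ι.base).obj O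
  let P : Opens V := HensSch.dOpen π f
  have hjO : D = (Opens.map j.toLRSHom.base).obj O :=
    Opens.ext (Set.preimage_image_eq _ j.isOpenEmbedding.injective).symm
  have hP : P = (Opens.map v.base).obj O' := by
    refine Opens.ext (Set.ext fun w => ?_)
    show π.base w ∈ D ↔ ι.base (v.base w) ∈ O
    rw [show ι.base (v.base w) = (v ≫ ι).base w from rfl, hc, hjO]
    rfl
  have hα : Function.Bijective (appLE j.toLRSHom O D hjO.le) :=
    have : LocallyRingedSpace.IsOpenImmersion j.toLRSHom :=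
      inferInstanceAs (IsOpenImmersion j)
    appLE_bijective _ hjO (Set.image_subset_range _ _)
  have hβ : Function.Bijective (appLE v O' P hP.le) :=
    appLE_bijective _ hP (by
      rw [hr]
      exact fun w hw => Set.image_subset_range _ _ hw)
  have key : ((appLE π D P le_rfl).comp (appLE j.toLRSHom O D hjO.le)) =
      (appLE v O' P hP.le).comp (appLE ι O O' le_rfl) := by
    have h₁ := appLE_comp v ι (U := O) (V := O') (W := P) hP.le le_rfl hP.le
    have h₂ := appLE_comp π j.toLRSHom (U := O) (V := D) (W := P) le_rfl hjO.le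
      (le_trans (le_of_eq rfl) ((Opens.map π.base).map (homOfLE hjO.le)).le)
    rw [appLE_congr hc.symm O P _ hP.le, h₁] at h₂
    exact h₂.symm
  let κ : CommRingCat.of A ⟶ CommRingCat.of A' := Spec.preimage (j ≫ X ↘ Spec (CommRingCat.of A))
  have hκ : Spec.map κ = j ≫ X ↘ Spec (CommRingCat.of A) := Spec.map_preimage _
  let I' : Ideal A' := PrimeSpectrum.vanishingIdeal
    (j.base ⁻¹' ((X ↘ Spec (CommRingCat.of A)).base ⁻¹' PrimeSpectrum.zeroLocus (I : Set A)))
  let K : Ideal A' := I.map κ.hom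
  have hI' : I' = K.radical := by
    rw [← PrimeSpectrum.vanishingIdeal_zeroLocus_eq_radical]
    refine congrArg PrimeSpectrum.vanishingIdeal ?_
    show (j ≫ X ↘ Spec (CommRingCat.of A)).base ⁻¹' PrimeSpectrum.zeroLocus (I : Set A) = _
    rw [← hκ]
    show PrimeSpectrum.comap κ.hom ⁻¹' _ = _
    rw [PrimeSpectrum.preimage_comap_zeroLocus]
    exact (PrimeSpectrum.zeroLocus_span _).symm
  haveI : IsLocallyNoetherian (Spec (CommRingCat.of A')) := isLocallyNoetherian_of_isOpenImmersion j
  haveI : IsNoetherianRing (CommRingCat.of A') :=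
    have := IsLocallyNoetherian.component_noetherian
      (⟨⊤, isAffineOpen_top (Spec (CommRingCat.of A'))⟩ : (Spec (CommRingCat.of A')).affineOpens)
    isNoetherianRing_of_ringEquiv _ (Scheme.ΓSpecIso (CommRingCat.of A')).commRingCatIsoToRingEquiv
  have hsm := hs.2.2 f
  rw [secMap_eq] at hsm
  obtain ⟨hn, hj, hd⟩ := sph_pair_data (CommRingCat.of A') f (appLE π D P le_rfl) (K := K) hsm
    (by rw [show PrimeSpectrum.vanishingIdeal _ = K.radical from hI']; exact Ideal.le_radical) hI'.le
  let β := RingEquiv.ofBijective _ hβ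
  have hidl : (idlH I ι O).map (appLE v O' P hP.le) = K.map ((appLE π D P le_rfl).comp (toSec A' D)) := by
    simp only [idlH, HomShH7.idl, K, Ideal.map_map]
    refine congrArg (fun q : A →+* _ => I.map q) (RingHom.ext fun a => ?_)
    show appLE v O' P hP.le (appLE ι O O' le_rfl (FormalH7.multHom X O a)) =
      appLE π D P le_rfl (toSec A' D (κ a))
    rw [← toGlobal_appLE j κ hκ hjO.le]
    exact congr($key.symm _)
  haveI := hn
  refine ⟨(isAffineOpen_top (Spec (CommRingCat.of A'))).basicOpen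
      ((Scheme.ΓSpecIso (CommRingCat.of A')).inv f) |> fun h => ?_,
    isNoetherianRing_of_ringEquiv _ β.symm, fun x hx => ?_, fun n w => ?_⟩
  · rw [basicOpen_eq_of_affine] at h
    exact h.image_of_isOpenImmersion j
  · have h1 : β x ∈ Ideal.jacobson ⊥ := hj (hidl.le (Ideal.mem_map_of_mem _ hx))
    rw [Ideal.mem_jacobson_bot] at h1 ⊢
    intro y
    have h2 := (h1 (β y)).map β.symm
    rwa [map_add, map_one, map_mul, β.symm_apply_apply, β.symm_apply_apply] at h2
  · obtain ⟨s, hs'⟩ := hd n (β w)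
    obtain ⟨a, rfl⟩ := hα.2 s
    refine ⟨a, ?_⟩
    have h1 : appLE v O' P hP.le (w - appLE ι O O' le_rfl a) ∈
        (idlH I ι O ^ n).map (appLE v O' P hP.le) := by
      rw [Ideal.map_pow, hidl, map_sub, show appLE v O' P hP.le (appLE ι O O' le_rfl a) =
        appLE π D P le_rfl (appLE j.toLRSHom O D hjO.le a) from congr($key.symm a)]
      exact hs'
    obtain ⟨z, hz, hze⟩ := (Ideal.mem_map_iff_of_surjective _ hβ.2).mp h1
    rwa [hβ.1 hze] at hz

/-- Nice opens are small. -/
theorem exists_nice [IsLocallyNoetherian X]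
    (hh : HensSch.IsHenselizationAlong X
      ((X ↘ Spec (CommRingCat.of A)).base ⁻¹' PrimeSpectrum.zeroLocus (I : Set A)) Xh ι)
    (x : Xh) (U : X.Opens) (hU : ι.base x ∈ U) :
    ∃ O : X.Opens, ι.base x ∈ O ∧ O ≤ U ∧ Nice I ι O := by
  have hxY := Set.ext_iff.mp hh.2.2.1 (ι.base x) |>.mp ⟨x, rfl⟩
  obtain ⟨A', _, j, _, ⟨p, hp⟩, V, v, _, π, hr, hc, hs⟩ := hh.2.2.2 _ hxY
  obtain ⟨-, ⟨f, rfl⟩, hpf, hfU⟩ := PrimeSpectrum.isTopologicalBasis_basic_opens.exists_subset_of_mem_open
    (u := j.base ⁻¹' U.1) (show j.base p ∈ U.1 from hp ▸ hU) (U.2.preimage j.base.hom.continuous)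
  exact ⟨j ''ᵁ PrimeSpectrum.basicOpen f, ⟨p, hpf, hp⟩,
    fun z hz => by obtain ⟨q, hq, rfl⟩ := hz; exact hfU hq, nice_chart I j v π hr hc hs f⟩

end Groth.Agent.HensSchH7
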