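import Groth.Agent.Lib.HensSchH7.Faithful
import Groth.Agent.Lib.HensSchH7.NiceOpen
import Groth.Agent.Lib.FormalModH7.LocFlat

/-!
# The unit of an adic Henselization on modules killed by a power of the ideal
-/

set_option autoImplicit false
set_option linter.style.haveILetI false
set_option backward.isDefEq.respectTransparency false
set_option backward.isDefEq.respectTransparency.types false
universe u

open CategoryTheory Opposite TopologicalSpace Topology AlgebraicGeometry TensorProduct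

namespace Groth.Agent.HensSchH7

open ModFlat16 Groth.Agent.KFlat.Site

variable {A : Type u} [CommRing A] (I : Ideal A) {X : Scheme.{u}} [X.Over (Spec (CommRingCat.of A))]
  {Xh : LocallyRingedSpace.{u}} (ι : Xh ⟶ X.toLocallyRingedSpace)

/-- The model of the inverse image. -/
noncomputable abbrev PS (G : X.Modules) : ModSite.Mod Xh.sheaf :=
  (ModSite.shPre Xh.sheaf).obj (preQ (HensSch.rmor ι) (G : ModSite.Mod X.toLocallyRingedSpace.sheaf))

/-- The unit, into the model. -/
noncomputable abbrev tau (G : X.Modules) : G ⟶ ((HensSch.pushMod ι).obj (PS ι G) : X.Modules) :=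
  toPush (HensSch.rmor ι) (G : ModSite.Mod X.toLocallyRingedSpace.sheaf)

/-- The class of a section over the preimage. -/
noncomputable abbrev tcls (G : X.Modules) (O : X.Opens) :
    ModSite.sect (G : ModSite.Mod X.toLocallyRingedSpace.sheaf) O →+
      ModSite.sect (PS ι G) ((Opens.map ι.base).obj O) :=
  clsAdd (f := HensSch.rmor ι) (M := (G : ModSite.Mod X.toLocallyRingedSpace.sheaf))
    (𝟙 ((Opens.map ι.base).obj O))

theorem tcls_smul (G : X.Modules) (O : X.Opens) (a : Γ(X, O)) (m : Γ(G, O)) :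
    tcls ι G O (a • m) =
      (appLE ι O ((Opens.map ι.base).obj O) le_rfl a : Xh.sheaf.obj.obj (op ((Opens.map ι.base).obj O))) •
        tcls ι G O m :=
  cls_smul (f := HensSch.rmor ι) (M := (G : ModSite.Mod X.toLocallyRingedSpace.sheaf))
    (𝟙 ((Opens.map ι.base).obj O)) a m

theorem tcls_natural {G H : X.Modules} (φ : G ⟶ H) (O : X.Opens) (m : Γ(G, O)) :
    (mapSh (f := HensSch.rmor ι) φ).val.app (op ((Opens.map ι.base).obj O)) (tcls ι G O m) =
      tcls ι H O (φ.app O m) :=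
  mapSh_cls φ _ m

theorem smul_eq_zero_of_mem {N : X.Modules} {n : ℕ} (hN : Formal.KilledBy (I ^ n) N) (O : X.Opens)
    {b : Γ(X, O)} (hb : b ∈ HomShH7.idl I O ^ n) (m : Γ(N, O)) : b • m = 0 := by
  rw [← Ideal.map_pow] at hb
  induction hb using Submodule.span_induction with
  | mem y hy =>
    obtain ⟨a, ha, rfl⟩ := hy
    exact congr($(congrArg (fun q : N ⟶ N => q.app O) (hN a ha)) m)
  | zero => exact zero_smul _ _
  | add a b _ _ ha hb => rw [add_smul, ha, hb, add_zero]
  | smul c a _ ha => rw [smul_eq_mul, mul_smul, ha, smul_zero]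

theorem smul_tcls_eq_zero {N : X.Modules} {n : ℕ} (hN : Formal.KilledBy (I ^ n) N) (O : X.Opens)
    {k : Sec Xh ((Opens.map ι.base).obj O)} (hk : k ∈ idlH I ι O ^ n) (m : Γ(N, O)) :
    (k : Xh.sheaf.obj.obj (op ((Opens.map ι.base).obj O))) • tcls ι N O m = 0 := by
  rw [← Ideal.map_pow] at hk
  induction hk using Submodule.span_induction with
  | mem y hy =>
    obtain ⟨b, hb, rfl⟩ := hy
    rw [← tcls_smul, smul_eq_zero_of_mem I hN O hb, map_zero]
  | zero => exact zero_smul _ _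
  | add a b _ _ ha hb => exact (add_smul a b _).trans (by rw [ha, hb, add_zero])
  | smul c a _ ha => exact (mul_smul c a _).trans (by rw [ha, smul_zero])

/-- Dense sections make combinations of classes into classes. -/
theorem sum_smul_tcls {N : X.Modules} {n : ℕ} (hN : Formal.KilledBy (I ^ n) N) (O : X.Opens) {l : ℕ}
    (v : Fin l → Sec Xh ((Opens.map ι.base).obj O)) (a : Fin l → Γ(X, O))
    (ha : ∀ i, v i - appLE ι O ((Opens.map ι.base).obj O) le_rfl (a i) ∈ idlH I ι O ^ n)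
    (m : Fin l → Γ(N, O)) :
    ∑ i, (v i : Xh.sheaf.obj.obj (op ((Opens.map ι.base).obj O))) • tcls ι N O (m i) =
      tcls ι N O (∑ i, a i • m i) := by
  rw [map_sum]
  refine Finset.sum_congr rfl fun i _ => ?_
  rw [tcls_smul, ← sub_eq_zero]
  exact (sub_smul _ _ _).symm.trans (smul_tcls_eq_zero I ι hN O (ha i) (m i))

variable {ι}
  (hh : HensSch.IsHenselizationAlong X
    ((X ↘ Spec (CommRingCat.of A)).base ⁻¹' PrimeSpectrum.zeroLocus (I : Set A)) Xh ι)

include hh in
/-- Every section is locally a combination of classes over a nice open. -/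
theorem exists_local_form [IsLocallyNoetherian X] (G : X.Modules) {W : Opens Xh}
    (σ : ModSite.sect (PS ι G) W) (x : Xh) (hx : x ∈ W) (U : X.Opens) (hU : ι.base x ∈ U) :
    ∃ (O : X.Opens) (h : (Opens.map ι.base).obj O ≤ W), ι.base x ∈ O ∧ O ≤ U ∧ Nice I ι O ∧
      ∃ (l : ℕ) (v : Fin l → Sec Xh ((Opens.map ι.base).obj O)) (m : Fin l → Γ(G, O)),
        smap (PS ι G) (homOfLE h) σ =
          ∑ i, (v i : Xh.sheaf.obj.obj (op ((Opens.map ι.base).obj O))) • tcls ι G O (m i) := by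
  classical
  let f := HensSch.rmor ι
  let G' : ModSite.Mod X.toLocallyRingedSpace.sheaf := G
  obtain ⟨S, hS, hz⟩ := exists_local_clsHom (f := f) (M := G') σ
  obtain ⟨W₁, k, hk, hxW₁⟩ := hS x hx
  obtain ⟨z, hz⟩ := hz k hk
  let z' : (SymT f G').obj (op W₁) →₀ Xh.sheaf.obj.obj (op W₁) := z
  obtain ⟨U₁, hU₁, hUW⟩ := hh.2.1.isOpen_iff.mp W₁.2
  let V : Opens X.toLocallyRingedSpace := ⟨⋂ s : z'.support, (s.1.1 : Opens X.toLocallyRingedSpace).1,
    isOpen_iInter_of_finite fun s => (s.1.1 : Opens X.toLocallyRingedSpace).2⟩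
  obtain ⟨O, hxO, hOU, hO⟩ := exists_nice I hh x (U ⊓ ⟨U₁, hU₁⟩ ⊓ V)
    ⟨⟨hU, show x ∈ ι.base ⁻¹' U₁ from hUW.symm ▸ hxW₁⟩, Set.mem_iInter.mpr fun s => s.1.2.1.le hxW₁⟩
  have hOW : (Opens.map ι.base).obj O ≤ W₁ := fun w hw =>
    (Set.ext_iff.mp hUW w).mp (hOU hw).1.2
  have hOV : ∀ s : z'.support, O ≤ s.1.1 := fun s w hw => Set.mem_iInter.mp (hOU hw).2 s
  let e : Fin (Fintype.card z'.support) ≃ z'.support := (Fintype.equivFin z'.support).symm
  refine ⟨O, hOW.trans k.le, hxO, fun w hw => (hOU hw).1.1, hO, _,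
    fun i => res Xh hOW (z' (e i).1), fun i => smap G' (homOfLE (hOV (e i))) (e i).1.2.2, ?_⟩
  rw [show homOfLE (hOW.trans k.le) = homOfLE hOW ≫ k from rfl, smap_comp, ← hz,
    show z = (z' : (preP f G').obj (op W₁)) from rfl, clsHom_eq_sum, Finsupp.sum, map_sum,
    ← Finset.sum_coe_sort, ← e.sum_comp]
  refine Finset.sum_congr rfl fun i _ => ?_
  refine (smap_smul _ _ _).trans ?_
  refine congrArg₂ (· • ·) rfl ?_
  refine (map_cls _ _ _).trans ?_
  show _ = cls f G' (𝟙 _) (smap G' (homOfLE (hOV (e i))) (e i).1.2.2)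
  rw [cls_res]
  exact congrArg (fun q => cls f G' q (e i).1.2.2) (Subsingleton.elim _ _)

include hh in
/-- The stalks of the inverse image are flat. -/
theorem flat_stalkMap_hens (x : Xh) : (ι.stalkMap x).hom.Flat := by
  refine flat_stalkMap ι hh.2.1 (fun w U hw => ?_) x
  have hwY := Set.ext_iff.mp hh.2.2.1 (ι.base w) |>.mp ⟨w, rfl⟩
  obtain ⟨A, _, j, _, ⟨p, hp⟩, V, v, _, π, hr, hc, hs⟩ := hh.2.2.2 _ hwY
  obtain ⟨-, ⟨f, rfl⟩, hpf, hfU⟩ := PrimeSpectrum.isTopologicalBasis_basic_opens.exists_subset_of_mem_open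
    (u := j.base ⁻¹' U.1) (show j.base p ∈ U.1 from hp ▸ hw) (U.2.preimage j.base.hom.continuous)
  exact ⟨j ''ᵁ PrimeSpectrum.basicOpen f, ⟨p, hpf, hp⟩,
    fun z hz => by obtain ⟨q, hq, rfl⟩ := hz; exact hfU hq, flat_appLE_chart j v π hr hc hs f⟩

theorem germ_eq_zero_of_killed {N : X.Modules} {n : ℕ} (hN : Formal.KilledBy (I ^ n) N) {x : X}
    (hx : x ∉ (X ↘ Spec (CommRingCat.of A)).base ⁻¹' PrimeSpectrum.zeroLocus (I : Set A))
    (b : N.presheaf.stalk x) : b = 0 := by
  obtain ⟨U, hxU, m, rfl⟩ := N.presheaf.exists_germ_eq b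
  obtain ⟨a, haI, ha⟩ : ∃ a ∈ I, a ∉ ((X ↘ Spec (CommRingCat.of A)).base x).asIdeal := by
    by_contra h
    push Not at h
    exact hx h
  let U' : X.Opens := U ⊓ X.basicOpen (Coh.toGlobal (X ↘ Spec (CommRingCat.of A)) a)
  have hxa : x ∈ X.basicOpen (Coh.toGlobal (X ↘ Spec (CommRingCat.of A)) a) := by
    show x ∈ X.basicOpen ((X ↘ Spec (CommRingCat.of A)).appTop
      ((Scheme.ΓSpecIso (CommRingCat.of A)).inv a))
    rw [← Scheme.preimage_basicOpen_top, basicOpen_eq_of_affine]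
    simp only [Iso.inv_hom_id_apply]
    exact ha
  have hu : IsUnit (FormalH7.multHom X U' a) := by
    have h1 := X.toRingedSpace.isUnit_res_basicOpen (Coh.toGlobal (X ↘ Spec (CommRingCat.of A)) a)
    have h2 := h1.map (X.presheaf.map (homOfLE (inf_le_right :
      U' ≤ X.basicOpen (Coh.toGlobal (X ↘ Spec (CommRingCat.of A)) a))).op).hom
    exact (congrArg IsUnit (M1.rs_rs (inf_le_right :
      U' ≤ X.basicOpen (Coh.toGlobal (X ↘ Spec (CommRingCat.of A)) a)) _)).mp h2
  have h0 : M1.mres N (inf_le_left : U' ≤ U) m = 0 := (hu.pow n).smul_eq_zero.mp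
    (smul_eq_zero_of_mem I hN U' (Ideal.pow_mem_pow (Ideal.mem_map_of_mem _ haI) n) _)
  rw [← M1.germ_mres N (inf_le_left : U' ≤ U) ⟨hxU, hxa⟩, h0, map_zero]

include hh in
/-- The unit is injective on modules killed by a power of the ideal. -/
theorem eq_zero_of_tcls_eq_zero {N : X.Modules} {n : ℕ} (hN : Formal.KilledBy (I ^ n) N) {U : X.Opens}
    (m : Γ(N, U)) (hm : tcls ι N U m = 0) : m = 0 := by
  refine TopCat.Presheaf.section_ext (⟨N.presheaf, N.isSheaf⟩ : TopCat.Sheaf _ _) U _ _ fun x hx => ?_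
  refine Eq.trans ?_ (map_zero _).symm
  by_cases hxY : x ∈ Set.range ι.base
  · obtain ⟨w, rfl⟩ := hxY
    exact germ_eq_zero_of_cls_eq_zero ι N m w hx (flat_stalkMap_hens I hh w) hm
  · exact germ_eq_zero_of_killed I hN (hh.2.2.1 ▸ hxY) _

include hh in
/-- The unit is an isomorphism on modules killed by a power of the ideal. -/
theorem isIso_tau [IsLocallyNoetherian X] {N : X.Modules} {n : ℕ} (hN : Formal.KilledBy (I ^ n) N) :
    IsIso (tau ι N) := by
  let T : X.Modules := (HensSch.pushMod ι).obj (PS ι N)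
  have happ : ∀ (U : X.Opens) (m : Γ(N, U)), (tau ι N).app U m = tcls ι N U m := fun U m => rfl
  rw [M1.isIso_iff_stalk]
  intro y
  refine ⟨?_, fun b => ?_⟩
  · refine (injective_iff_map_eq_zero ((M1.stalkAb y).map (tau ι N)).hom).mpr fun b hb => ?_
    obtain ⟨U, hyU, m, rfl⟩ := N.presheaf.exists_germ_eq b
    rw [M1.germ_naturality] at hb
    obtain ⟨U₁, hy₁, i₁, i₂, he⟩ := T.presheaf.germ_eq y hyU hyU _ 0 (hb.trans (map_zero _).symm)
    have h0 : tcls ι N U₁ (M1.mres N i₁.le m) = 0 := by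
      rw [← happ, M1.app_mres]
      exact he.trans (map_zero _)
    rw [← M1.germ_mres N i₁.le hy₁, eq_zero_of_tcls_eq_zero I hh hN _ h0, map_zero]
  · obtain ⟨U, hyU, t, rfl⟩ := T.presheaf.exists_germ_eq b
    by_cases hy : y ∈ Set.range ι.base
    · obtain ⟨w, rfl⟩ := hy
      obtain ⟨O, h, hwO, hOU, hO, l, v, m, hvm⟩ := exists_local_form I hh N (W := (Opens.map ι.base).obj U)
        (t : ModSite.sect (PS ι N) ((Opens.map ι.base).obj U)) w hyU U hyU
      choose a ha using fun i => hO.dense n (v i)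
      refine ⟨N.presheaf.germ O (ι.base w) hwO (∑ i, a i • m i), ?_⟩
      rw [M1.germ_naturality, happ, ← sum_smul_tcls I ι hN O v a ha m, ← hvm]
      exact T.presheaf.germ_res_apply (homOfLE hOU) (ι.base w) hwO t
    · refine ⟨0, (map_zero _).trans ?_⟩
      have hYc : IsClosed (Set.range ι.base) := hh.2.2.1 ▸ hh.1
      let U₁ : X.Opens := U ⊓ ⟨(Set.range ι.base)ᶜ, hYc.isOpen_compl⟩
      have hemp : (Opens.map ι.base).obj U₁ = ⊥ := by
        refine Opens.ext (Set.eq_empty_iff_forall_notMem.mpr fun w hw => ?_)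
        exact hw.2 ⟨w, rfl⟩
      have h0 : M1.mres T (inf_le_left : U₁ ≤ U) t = 0 := by
        refine TopCat.Sheaf.eq_of_locally_eq'
          (⟨_, ((SheafOfModules.toSheaf _).obj (PS ι N)).property⟩ : TopCat.Sheaf AddCommGrpCat.{u} Xh.toTopCat)
          (fun e : PEmpty.{u + 1} => nomatch e) ((Opens.map ι.base).obj U₁) (fun e => nomatch e)
          (hemp.le.trans bot_le) _ _ fun e => nomatch e
      rw [← M1.germ_mres T (inf_le_left : U₁ ≤ U) (show y ∈ U₁ from ⟨hyU, hy⟩), h0, map_zero]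

include hh in
/-- Sections of the inverse image of a coherent module are separated for the adic topology. -/
theorem eq_zero_of_levels [IsLocallyNoetherian X] {G : X.Modules} (hG : Coh.IsCoh G) {W : Opens Xh}
    (t : ModSite.sect (PS ι G) W)
    (ht : ∀ n, (mapSh (f := HensSch.rmor ι) (Formal.modPowπ I (n + 1) G)).val.app (op W) t = 0) :
    t = 0 := by
  have loc : ∀ x : W, ∃ O : X.Opens, ι.base x.1 ∈ O ∧ ∃ h : (Opens.map ι.base).obj O ≤ W,
      smap (PS ι G) (homOfLE h) t = 0 := by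
    rintro ⟨x, hx⟩
    obtain ⟨O, h, hxO, -, hO, l, v, m, hvm⟩ := exists_local_form I hh G t x hx ⊤ trivial
    refine ⟨O, hxO, h, hvm.trans ?_⟩
    let ρ := appLE ι O ((Opens.map ι.base).obj O) le_rfl
    let P := Sec Xh ((Opens.map ι.base).obj O)
    letI : Algebra Γ(X, O) P := ρ.toAlgebra
    haveI := hO.noeth
    haveI := hG.1
    haveI : Module.Finite Γ(X, O) Γ(G, O) := M1.finite_sections hG.1 hG.2 hO.affine
    let s : P ⊗[Γ(X, O)] Γ(G, O) := ∑ i, v i ⊗ₜ[Γ(X, O)] m i
    have hs : s = 0 := by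
      refine (Submodule.eq_bot_iff _).mp
        (Ideal.iInf_pow_smul_eq_bot_of_le_jacobson (M := P ⊗[Γ(X, O)] Γ(G, O)) (idlH I ι O) hO.jac) s ?_
      refine Submodule.mem_iInf _ |>.mpr fun n => ?_
      refine Submodule.smul_mono_left (Ideal.pow_le_pow_right (Nat.le_succ n)) ?_
      choose a ha using fun i => hO.dense (n + 1) (v i)
      have h1 : (Formal.modPowπ I (n + 1) G).app O (∑ i, a i • m i) = 0 := by
        refine eq_zero_of_tcls_eq_zero I hh (FormalH7.killedBy_modPow I (n + 1) G) _ ?_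
        rw [map_sum]
        simp only [Scheme.Modules.Hom.app_smul]
        rw [← sum_smul_tcls I ι (FormalH7.killedBy_modPow I (n + 1) G) O v a ha]
        have h2 := congrArg ((mapSh (f := HensSch.rmor ι) (Formal.modPowπ I (n + 1) G)).val.app
          (op ((Opens.map ι.base).obj O))) hvm
        rw [map_sum] at h2
        refine Eq.trans ?_ (h2.symm.trans ?_)
        · exact Finset.sum_congr rfl fun i _ => ((map_smul _ _ _).trans
            (congrArg _ (tcls_natural ι _ O (m i)))).symm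
        · refine (PresheafOfModules.naturality_apply
            (mapSh (f := HensSch.rmor ι) (Formal.modPowπ I (n + 1) G)).val (homOfLE h).op t).trans ?_
          exact (congrArg _ (ht n)).trans (map_zero _)
      have h3 := (HomShH7.app_modPowπ_eq_zero_iff I hG.1 (n + 1) hO.affine _).mp h1
      have h4 : s = ∑ i, (v i - ρ (a i)) ⊗ₜ[Γ(X, O)] m i + (1 : P) ⊗ₜ[Γ(X, O)] ∑ i, a i • m i := by
        rw [tmul_sum, ← Finset.sum_add_distrib]
        refine Finset.sum_congr rfl fun i _ => ?_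
        rw [← smul_tmul, ← add_tmul, Algebra.smul_def, mul_one]
        exact congrArg (· ⊗ₜ[Γ(X, O)] m i) (sub_add_cancel _ _).symm
      rw [h4]
      refine Submodule.add_mem _ (Submodule.sum_mem _ fun i _ => ?_) ?_
      · rw [show (v i - ρ (a i)) ⊗ₜ[Γ(X, O)] m i = (v i - ρ (a i)) • ((1 : P) ⊗ₜ[Γ(X, O)] m i) by
          rw [smul_tmul', smul_eq_mul, mul_one]]
        exact Submodule.smul_mem_smul (ha i) trivial
      · refine Submodule.smul_induction_on (p := fun y => (1 : P) ⊗ₜ[Γ(X, O)] y ∈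
            idlH I ι O ^ (n + 1) • (⊤ : Submodule P (P ⊗[Γ(X, O)] Γ(G, O)))) h3 (fun r hr y _ => ?_) fun y z hy hz => ?_
        · rw [tmul_smul, ← algebraMap_smul P r ((1 : P) ⊗ₜ[Γ(X, O)] y)]
          refine Submodule.smul_mem_smul ?_ trivial
          rw [idlH, ← Ideal.map_pow]
          exact Ideal.mem_map_of_mem _ hr
        · rw [tmul_add]
          exact Submodule.add_mem _ hy hz
    exact FormalModH7.sum_smul_cls_eq_zero (f := HensSch.rmor ι) (𝟙 _) v m hs
  choose O hxO h h0 using loc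
  refine TopCat.Sheaf.eq_of_locally_eq'
    (⟨_, ((SheafOfModules.toSheaf _).obj (PS ι G)).property⟩ : TopCat.Sheaf AddCommGrpCat.{u} Xh.toTopCat)
    (fun x : W => (Opens.map ι.base).obj (O x)) W (fun x => homOfLE (h x))
    (fun x hx => Opens.mem_iSup.mpr ⟨⟨x, hx⟩, hxO ⟨x, hx⟩⟩) _ _ fun x => ?_
  exact (h0 x).trans (map_zero _).symm

end Groth.Agent.HensSchH7
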