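import Groth.Agent.Lib.HensSchH7.Good
import Groth.Agent.Lib.HensGlue6.Away
import Groth.Agent.Lib.Hens.PairApi

/-!
# Common distinguished opens in two Henselian affine charts
-/

set_option autoImplicit false
set_option backward.isDefEq.respectTransparency false
universe u

open CategoryTheory Opposite TopologicalSpace Topology AlgebraicGeometry

namespace Groth.Agent.HensSchH7

variable {A : Type u} [CommRing A] {U : LocallyRingedSpace.{u}} (π : U ⟶ HensSch.specLRS A)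

theorem mem_basicOpen_secMap (D : Opens (PrimeSpectrum A)) (a : A) {w : U} (hw : π.base w ∈ D) :
    w ∈ U.toRingedSpace.basicOpen (HensSch.secMap π D a) ↔ π.base w ∈ PrimeSpectrum.basicOpen a := by
  rw [secMap_eq, RingHom.comp_apply, mem_basicOpen_appLE π le_rfl hw, basicOpen_toSec hw]

/-- The non-vanishing locus of a section over a distinguished open is cut out by an element. -/
theorem exists_dOpen_eq_basicOpen {I : Ideal A} (hU : HensSch.IsSph A I U π) (f : A)
    (s : Sec U (HensSch.dOpen π f)) :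
    ∃ a : A, ∀ w ∈ HensSch.dOpen π f, (w ∈ U.toRingedSpace.basicOpen s ↔ w ∈ HensSch.dOpen π a) := by
  let P := Sec U (HensSch.dOpen π f)
  let ψ := HensSch.secMap π (PrimeSpectrum.basicOpen f)
  letI : Algebra A P := ψ.toAlgebra
  have hP : HensGlue6.IsAway I f P := hU.2.2 f
  obtain ⟨_, _, hp⟩ := hP.exists_pair
  obtain ⟨l, hl⟩ := Hens.IsPairHenselization.exists_sub_mem hp s
  obtain ⟨n, a, ha⟩ := IsLocalization.Away.surj f l
  refine ⟨a, fun w hw => ?_⟩
  have hI : ∀ z ∈ I.map ψ, ev U w hw z = 0 := fun z hz => by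
    have h1 : I.map ψ ≤ RingHom.ker (ev U w hw) := Ideal.map_le_iff_le_comap.mpr fun b hb => by
      rw [Ideal.mem_comap, RingHom.mem_ker, ev_eq_zero, mem_basicOpen_secMap π _ b hw]
      intro hwb
      have h2 : π.base w ∈ PrimeSpectrum.zeroLocus (I : Set A) := hU.2.1 ▸ ⟨w, rfl⟩
      exact hwb (h2 hb)
    exact h1 hz
  rw [Ideal.map_map, ← IsScalarTower.algebraMap_eq] at hl
  have h3 : ev U w hw s * ev U w hw (ψ f) ^ n = ev U w hw (ψ a) := by
    rw [sub_eq_zero.mp ((map_sub _ _ _).symm.trans (hI _ hl)), ← map_pow, ← map_mul]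
    refine congrArg _ ?_
    show algebraMap _ P l * ψ f ^ n = ψ a
    have h4 := congrArg (algebraMap (Localization.Away f) P) ha
    rw [map_mul, map_pow, ← IsScalarTower.algebraMap_apply, ← IsScalarTower.algebraMap_apply] at h4
    exact h4
  have hu : ev U w hw (ψ f) ^ n ≠ 0 := ((hP.1.map (ev U w hw)).pow n).ne_zero
  show w ∈ U.toRingedSpace.basicOpen s ↔ π.base w ∈ PrimeSpectrum.basicOpen a
  rw [← mem_basicOpen_secMap π (PrimeSpectrum.basicOpen f) a hw, ← not_iff_not, ← ev_eq_zero hw,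
    ← ev_eq_zero hw]
  exact ⟨fun h => by rw [← h3, h, zero_mul], fun h => (mul_eq_zero_iff_right hu).mp (h3.trans h)⟩

/-- Two charts share small distinguished opens. -/
theorem exists_common_dOpen {X : LocallyRingedSpace.{u}} {V : LocallyRingedSpace.{u}} (iU : U ⟶ X)
    [LocallyRingedSpace.IsOpenImmersion iU] (iV : V ⟶ X) [LocallyRingedSpace.IsOpenImmersion iV]
    {I : Ideal A} (hU : HensSch.IsSph A I U π) {B : Type u} [CommRing B] {J : Ideal B}
    {πV : V ⟶ HensSch.specLRS B} (hV : HensSch.IsSph B J V πV)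
    {x : X} (hxU : x ∈ Set.range iU.base) (hxV : x ∈ Set.range iV.base) :
    ∃ (f : A) (g : B), x ∈ iU.base '' (HensSch.dOpen π f : Set U) ∧
      iU.base '' (HensSch.dOpen π f : Set U) = iV.base '' (HensSch.dOpen πV g : Set V) := by
  obtain ⟨u, rfl⟩ := hxU
  obtain ⟨v, hv⟩ := hxV
  have hiU : IsOpenEmbedding iU.base :=
    (show PresheafedSpace.IsOpenImmersion iU.toShHom.hom from inferInstance).base_open
  have hiV : IsOpenEmbedding iV.base :=
    (show PresheafedSpace.IsOpenImmersion iV.toShHom.hom from inferInstance).base_open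
  obtain ⟨T, hT, hTe⟩ := hU.1.isOpen_iff.mp (hiV.isOpen_range.preimage iU.base.hom.continuous)
  obtain ⟨-, ⟨f, rfl⟩, huf, hfT⟩ := PrimeSpectrum.isTopologicalBasis_basic_opens.exists_subset_of_mem_open
    (show π.base u ∈ T from (Set.ext_iff.mp hTe u).mpr ⟨v, hv⟩) hT
  let W : Opens X := ⟨iU.base '' (HensSch.dOpen π f : Set U), hiU.isOpenMap _ (HensSch.dOpen π f).2⟩
  have hWV : (W : Set X) ⊆ Set.range iV.base := by
    rintro _ ⟨w, hw, rfl⟩
    exact (Set.ext_iff.mp hTe w).mp (hfT hw)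
  obtain ⟨T', hT', hTe'⟩ := hV.1.isOpen_iff.mp (W.2.preimage iV.base.hom.continuous)
  obtain ⟨-, ⟨g, rfl⟩, hvg, hgT⟩ := PrimeSpectrum.isTopologicalBasis_basic_opens.exists_subset_of_mem_open
    (show πV.base v ∈ T' from (Set.ext_iff.mp hTe' v).mpr ⟨u, huf, hv.symm⟩) hT'
  let W' : Opens V := (Opens.map iV.base).obj W
  obtain ⟨t, ht⟩ := (appLE_bijective iV (U := W) (W := W') rfl hWV).2
    (res V (le_top : W' ≤ ⊤) (HensSch.secMap πV ⊤ g))
  have hle : HensSch.dOpen π f ≤ (Opens.map iU.base).obj W := fun w hw => ⟨w, hw, rfl⟩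
  obtain ⟨a, ha⟩ := exists_dOpen_eq_basicOpen π hU f (appLE iU W (HensSch.dOpen π f) hle t)
  have key : ∀ w (v' : V), w ∈ HensSch.dOpen π f → iV.base v' = iU.base w →
      (w ∈ HensSch.dOpen π a ↔ v' ∈ HensSch.dOpen πV g) := fun w v' hw hvw => by
    have hv' : v' ∈ W' := by
      show iV.base v' ∈ W
      rw [hvw]
      exact ⟨w, hw, rfl⟩
    rw [← ha w hw, mem_basicOpen_appLE iU hle hw, ← hvw, ← mem_basicOpen_appLE iV le_rfl hv', ht,
      mem_basicOpen_res _ hv']
    exact mem_basicOpen_secMap πV ⊤ g trivial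
  have hmul : ∀ w, w ∈ HensSch.dOpen π (f * a) ↔ w ∈ HensSch.dOpen π f ∧ w ∈ HensSch.dOpen π a := fun w => by
    show π.base w ∈ PrimeSpectrum.basicOpen (f * a) ↔ _
    rw [PrimeSpectrum.basicOpen_mul]
    exact Iff.rfl
  refine ⟨f * a, g, ⟨u, (hmul u).mpr ⟨huf, (key u v huf hv).mpr hvg⟩, rfl⟩, Set.ext fun y => ⟨?_, ?_⟩⟩
  · rintro ⟨w, hw, rfl⟩
    obtain ⟨hwf, hwa⟩ := (hmul w).mp hw
    obtain ⟨v', hv'⟩ := hWV ⟨w, hwf, rfl⟩
    exact ⟨v', (key w v' hwf hv').mp hwa, hv'⟩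
  · rintro ⟨v', hv', rfl⟩
    obtain ⟨w, hwf, hw⟩ := (Set.ext_iff.mp hTe' v').mp (hgT hv')
    exact ⟨w, (hmul w).mpr ⟨hwf, (key w v' hwf hw.symm).mpr hv'⟩, hw⟩

end Groth.Agent.HensSchH7
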