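import Groth.Agent.Lib.HensSchH7.FlatPull
import Groth.Agent.Lib.ModM1.Stalk
import Groth.Agent.Lib.ModFlat16.PullMono
import Mathlib.RingTheory.Flat.FaithfullyFlat.Algebra
import Mathlib.RingTheory.Flat.EquationalCriterion

/-!
# Faithfulness of the inverse image along a Henselization
-/

set_option autoImplicit false
set_option linter.style.haveILetI false
set_option backward.isDefEq.respectTransparency false
universe u

open CategoryTheory Opposite TopologicalSpace Topology AlgebraicGeometry TensorProduct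

namespace Groth.Agent.HensSchH7

section Stalk

variable {X Y : LocallyRingedSpace.{u}} (g : X ⟶ Y)

theorem stalkMap_appLE (x : X) {U : Opens Y} {W : Opens X} (e : W ≤ (Opens.map g.base).obj U)
    (hx : x ∈ W) (s : Sec Y U) :
    (g.stalkMap x).hom (Y.presheaf.germ U (g.base x) (e hx) s) =
      X.presheaf.germ W x hx (appLE g U W e s) := by
  rw [LocallyRingedSpace.stalkMap_germ_apply, appLE_def]
  exact (X.presheaf.germ_res_apply (homOfLE e) x hx _).symm

/-- Flatness on local rings from flatness on sections over small opens. -/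
theorem flat_stalkMap (hemb : IsEmbedding g.base)
    (h : ∀ (x : X) (U : Opens Y), g.base x ∈ U →
      ∃ O : Opens Y, g.base x ∈ O ∧ O ≤ U ∧ (appLE g O ((Opens.map g.base).obj O) le_rfl).Flat)
    (x : X) : (g.stalkMap x).hom.Flat := by
  classical
  let S := Y.presheaf.stalk (g.base x)
  let T := X.presheaf.stalk x
  letI : Algebra S T := (g.stalkMap x).hom.toAlgebra
  show Module.Flat S T
  refine Module.Flat.iff_forall_isTrivialRelation.mpr fun {l f t} hrel => ?_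
  choose U hU a ha using fun i => Y.presheaf.exists_germ_eq (f i)
  choose W hW b hb using fun i => X.presheaf.exists_germ_eq (t i)
  let U₁ : Opens Y := ⟨⋂ i, (U i).1, isOpen_iInter_of_finite fun i => (U i).2⟩
  let W₁ : Opens X := ⟨(g.base ⁻¹' U₁.1) ∩ ⋂ i, (W i).1,
    (U₁.2.preimage g.base.hom.continuous).inter (isOpen_iInter_of_finite fun i => (W i).2)⟩
  have hxU₁ : g.base x ∈ U₁ := Set.mem_iInter.mpr hU
  have hxW₁ : x ∈ W₁ := ⟨hxU₁, Set.mem_iInter.mpr hW⟩
  have hUi : ∀ i, U₁ ≤ U i := fun i z hz => Set.mem_iInter.mp hz i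
  have hWi : ∀ i, W₁ ≤ W i := fun i z hz => Set.mem_iInter.mp hz.2 i
  have hW₁ : W₁ ≤ (Opens.map g.base).obj U₁ := fun z hz => hz.1
  let σ : Sec X W₁ := ∑ i, appLE g U₁ W₁ hW₁ (res Y (hUi i) (a i)) * res X (hWi i) (b i)
  have hσ : X.presheaf.germ W₁ x hxW₁ σ = X.presheaf.germ W₁ x hxW₁ 0 := by
    rw [map_zero, ← hrel, map_sum]
    refine Finset.sum_congr rfl fun i _ => ?_
    rw [map_mul, ← stalkMap_appLE g x hW₁ hxW₁, Algebra.smul_def]
    show (g.stalkMap x).hom (Y.presheaf.germ _ _ _ (Y.presheaf.map (homOfLE (hUi i)).op (a i))) *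
      X.presheaf.germ _ _ _ (X.presheaf.map (homOfLE (hWi i)).op (b i)) = _
    rw [Y.presheaf.germ_res_apply, X.presheaf.germ_res_apply, ha, hb]
    rfl
  obtain ⟨W₂, hxW₂, i₁, i₂, he⟩ := X.presheaf.germ_eq x hxW₁ hxW₁ σ 0 hσ
  obtain ⟨U₂, hU₂, hUW⟩ := hemb.isOpen_iff.mp W₂.2
  obtain ⟨O, hxO, hOU, hfl⟩ := h x (U₁ ⊓ ⟨U₂, hU₂⟩)
    ⟨hxU₁, show x ∈ g.base ⁻¹' U₂ from hUW.symm ▸ hxW₂⟩
  let V : Opens X := (Opens.map g.base).obj O
  have hVW : V ≤ W₂ := fun z hz => (Set.ext_iff.mp hUW z).mp (hOU hz).2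
  have hVW₁ : V ≤ W₁ := hVW.trans i₁.le
  have hOU₁ : O ≤ U₁ := hOU.trans inf_le_left
  have hz : ∑ i, appLE g O V le_rfl (res Y (hOU₁.trans (hUi i)) (a i)) *
      res X (hVW₁.trans (hWi i)) (b i) = 0 := by
    have h1 : res X hVW₁ σ = 0 := by
      have h2 := congrArg (res X hVW) he
      rw [map_zero, map_zero] at h2
      exact (res_res i₁.le hVW σ).symm.trans h2
    rw [← h1, map_sum]
    refine Finset.sum_congr rfl fun i _ => ?_
    rw [map_mul, res_res]
    refine congrArg (· * _) ?_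
    rw [show res X hVW₁ (appLE g U₁ W₁ hW₁ (res Y (hUi i) (a i))) = appLE g U₁ V (hVW₁.trans hW₁)
      (res Y (hUi i) (a i)) from congr($(res_appLE g hW₁ hVW₁) _), ← res_res (hUi i) hOU₁]
    exact congr($(appLE_res g hOU₁ (W := V) le_rfl) _)
  letI : Algebra (Sec Y O) (Sec X V) := (appLE g O V le_rfl).toAlgebra
  haveI : Module.Flat (Sec Y O) (Sec X V) := hfl
  obtain ⟨k, c, y, hy, hc⟩ := Module.Flat.iff_forall_isTrivialRelation.mp this
    (f := fun i => res Y (hOU₁.trans (hUi i)) (a i)) (x := fun i => res X (hVW₁.trans (hWi i)) (b i))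
    (by simpa only [Algebra.smul_def] using! hz)
  refine ⟨k, fun i j => Y.presheaf.germ O (g.base x) hxO (c i j),
    fun j => X.presheaf.germ V x hxO (y j), fun i => ?_, fun j => ?_⟩
  · have h1 := congrArg (X.presheaf.germ V x hxO) (hy i)
    rw [map_sum] at h1
    refine Eq.trans ?_ (h1.trans (Finset.sum_congr rfl fun j _ => ?_))
    · show t i = X.presheaf.germ V x hxO (X.presheaf.map (homOfLE (hVW₁.trans (hWi i))).op (b i))
      rw [X.presheaf.germ_res_apply, hb]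
    · rw [Algebra.smul_def, Algebra.smul_def, map_mul]
      exact congrArg (· * _) (stalkMap_appLE g x le_rfl hxO _).symm
  · have h1 := congrArg (Y.presheaf.germ O (g.base x) hxO) (hc j)
    rw [map_sum, map_zero] at h1
    refine Eq.trans (Finset.sum_congr rfl fun i _ => ?_) h1
    rw [map_mul]
    refine congrArg (· * _) ?_
    show f i = Y.presheaf.germ O _ hxO (Y.presheaf.map (homOfLE (hOU₁.trans (hUi i))).op (a i))
    rw [Y.presheaf.germ_res_apply, ha]

end Stalk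

section Kill

open ModFlat16

variable {X : Scheme.{u}} {Xh : LocallyRingedSpace.{u}} (ι : Xh ⟶ X.toLocallyRingedSpace)

/-- A section whose class in the inverse image vanishes has zero germ at flat points. -/
theorem germ_eq_zero_of_cls_eq_zero (G : X.Modules) {U : X.Opens} (m : Γ(G, U)) (x : Xh)
    (hx : ι.base x ∈ U) (hfl : (ι.stalkMap x).hom.Flat)
    (hm : cls (HensSch.rmor ι) (G : ModSite.Mod X.toLocallyRingedSpace.sheaf)
      (𝟙 ((Opens.map ι.base).obj U)) m = 0) :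
    G.presheaf.germ U (ι.base x) hx m = 0 := by
  classical
  let f := HensSch.rmor ι
  let G' : ModSite.Mod X.toLocallyRingedSpace.sheaf := G
  let W₀ : Opens Xh := (Opens.map ι.base).obj U
  obtain ⟨S, hS, hS'⟩ := exists_local_rel (f := f) (M := G') (U := W₀)
    (gen (f := f) (M := G') (𝟙 W₀) m) ((clsHom_gen _ _).trans hm)
  obtain ⟨W₁, k₁, hk₁, hxW₁⟩ := hS x hx
  obtain ⟨c, hc⟩ := hS' k₁ hk₁
  rw [map_gen] at hc
  obtain ⟨T, hT, hT'⟩ := exists_node (f := f) (M := G')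
    ({⟨U, k₁ ≫ 𝟙 W₀⟩} : Finset (Node f W₁))
    (Finsupp.single (⟨U, k₁ ≫ 𝟙 W₀, m⟩ : (SymT f G').obj (op W₁)) 1)
    (fun s hs => by
      rw [Finset.mem_singleton.mp (Finsupp.support_single_subset hs)]
      exact Finset.mem_singleton_self _) c hc
  obtain ⟨W₂, k, hk, hxW₂⟩ := hT x hxW₁
  obtain ⟨V₀, u₀, g, hsome, -, hsum⟩ := hT' k hk
  obtain ⟨a, ha⟩ := Option.isSome_iff_exists.mp (hsome ⟨U, k₁ ≫ 𝟙 W₀⟩ (Finset.mem_singleton_self _))
  letI : Algebra (X.presheaf.obj (op V₀)) (Sec Xh W₂) := (rho f u₀).toAlgebra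
  letI : Module (X.presheaf.obj (op V₀)) (ModSite.sect G' V₀) :=
    inferInstanceAs (Module Γ(X, V₀) Γ(G, V₀))
  have hxV : ι.base x ∈ V₀ := u₀.le hxW₂
  have h1 : ((1 : Sec Xh W₂) ⊗ₜ[X.presheaf.obj (op V₀)] (smap G' a m)) = 0 := by
    refine Eq.trans ?_ hsum
    rw [Finsupp.sum_single_index (by rw [map_zero, zero_tmul]), map_one]
    have hn : g (node (f := f) (M := G') (U := W₁) ⟨U, k₁ ≫ 𝟙 W₀, m⟩) = some a := ha
    simp only [hn, Option.isSome_some, dite_true, Option.get_some]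
    rfl
  let P := X.presheaf.stalk (ι.base x)
  let Q := Xh.presheaf.stalk x
  let N := G.presheaf.stalk (ι.base x)
  letI : Algebra P Q := (ι.stalkMap x).hom.toAlgebra
  haveI : Module.Flat P Q := hfl
  haveI : IsLocalHom (algebraMap P Q) := inferInstanceAs (IsLocalHom (ι.stalkMap x).hom)
  haveI : Module.FaithfullyFlat P Q := Module.FaithfullyFlat.of_flat_of_isLocalHom
  let γ : Sec Xh W₂ →+* Q := (Xh.presheaf.germ W₂ x hxW₂).hom
  let δ : X.presheaf.obj (op V₀) →+* P := (X.presheaf.germ V₀ (ι.base x) hxV).hom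
  let ε : ModSite.sect G' V₀ →+ N := (G.presheaf.germ V₀ (ι.base x) hxV).hom
  have hγ : ∀ r, γ (rho f u₀ r) = algebraMap P Q (δ r) := fun r =>
    (stalkMap_appLE ι x u₀.le hxW₂ r).symm
  let Φ : Sec Xh W₂ ⊗[X.presheaf.obj (op V₀)] ModSite.sect G' V₀ →+ Q ⊗[P] N :=
    TensorProduct.liftAddHom
      (AddMonoidHom.mk' (fun r => AddMonoidHom.mk' (fun n => γ r ⊗ₜ[P] ε n)
        fun n n' => by rw [map_add, tmul_add])
        fun r r' => AddMonoidHom.ext fun n => by
          show γ (r + r') ⊗ₜ[P] ε n = _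
          rw [map_add, add_tmul]; rfl)
      fun b r n => by
        change γ (@HMul.hMul (Sec Xh W₂) (Sec Xh W₂) _ _ (rho f u₀ b) r) ⊗ₜ[P] ε n = γ r ⊗ₜ[P] ε (b • n)
        rw [map_mul, hγ, ← Algebra.smul_def, smul_tmul]
        exact congrArg _ (M1.germ_smul G hxV b n).symm
  have h2 : (1 : Q) ⊗ₜ[P] ε (smap G' a m) = (1 : Q) ⊗ₜ[P] (0 : N) := by
    rw [tmul_zero]
    have h3 : γ 1 ⊗ₜ[P] ε (smap G' a m) = 0 := (congrArg Φ h1).trans (map_zero Φ)
    rwa [map_one] at h3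
  have h4 : ε (smap G' a m) = 0 :=
    Module.FaithfullyFlat.tensorProduct_mk_injective (A := P) (B := Q) N h2
  exact (G.presheaf.germ_res_apply a (ι.base x) hxV m).symm.trans h4

/-- Two maps with the same inverse image agree on germs at flat points. -/
theorem germ_app_eq_of_pull_eq (F G : X.Modules) (φ ψ : F ⟶ G)
    (h : (HensSch.pullMod ι).map φ = (HensSch.pullMod ι).map ψ) {U : X.Opens} (s : Γ(F, U)) (x : Xh)
    (hx : ι.base x ∈ U) (hfl : (ι.stalkMap x).hom.Flat) :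
    G.presheaf.germ U (ι.base x) hx (φ.app U s) = G.presheaf.germ U (ι.base x) hx (ψ.app U s) := by
  let f := HensSch.rmor ι
  have hm : mapSh (f := f) φ = mapSh (f := f) ψ := by
    have h' : f.pull.map φ = f.pull.map ψ := h
    rw [pull_map_eq, pull_map_eq, cancel_epi, cancel_mono] at h'
    exact h'
  let W₀ : Opens Xh := (Opens.map ι.base).obj U
  rw [← sub_eq_zero, ← map_sub]
  refine germ_eq_zero_of_cls_eq_zero ι G _ x hx hfl ?_
  show clsAdd (f := f) (𝟙 W₀) (φ.app U s - ψ.app U s) = 0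
  rw [map_sub, sub_eq_zero]
  show cls f _ (𝟙 W₀) (φ.val.app (op U) s) = cls f _ (𝟙 W₀) (ψ.val.app (op U) s)
  rw [← mapSh_cls, ← mapSh_cls, hm]

end Kill

/-- Faithfulness on quasi-coherent modules when every point specializes into the closed set. -/
theorem pullMod_map_injective {X : Scheme.{u}} [CompactSpace X] {Y : Set X}
    (hY : ∀ x : X, IsClosed ({x} : Set X) → x ∈ Y)
    {Xh : LocallyRingedSpace.{u}} {ι : Xh ⟶ X.toLocallyRingedSpace}
    (hh : HensSch.IsHenselizationAlong X Y Xh ι)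
    (F G : X.Modules) [Coh.IsQCoh F] (φ ψ : F ⟶ G)
    (h : (HensSch.pullMod ι).map φ = (HensSch.pullMod ι).map ψ) : φ = ψ := by
  have hfl : ∀ z, (ι.stalkMap z).hom.Flat := fun z => flat_stalkMap ι hh.2.1 (fun w U hw => by
    have hwY : ι.base w ∈ Y := hh.2.2.1 ▸ ⟨w, rfl⟩
    obtain ⟨A, _, j, _, ⟨p, hp⟩, V, v, _, π, hr, hc, hs⟩ := hh.2.2.2 _ hwY
    obtain ⟨-, ⟨f, rfl⟩, hpf, hfU⟩ := PrimeSpectrum.isTopologicalBasis_basic_opens.exists_subset_of_mem_open
      (u := j.base ⁻¹' U.1) (show j.base p ∈ U.1 from hp ▸ hw) (U.2.preimage j.base.hom.continuous)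
    exact ⟨j ''ᵁ PrimeSpectrum.basicOpen f, ⟨p, hpf, hp⟩,
      fun z hz => by obtain ⟨q, hq, rfl⟩ := hz; exact hfU hq, flat_appLE_chart j v π hr hc hs f⟩) z
  refine Scheme.Modules.hom_ext φ ψ fun U => ?_
  ext s
  refine TopCat.Presheaf.section_ext (⟨G.presheaf, G.isSheaf⟩ : TopCat.Sheaf _ _) U _ _ fun x hx => ?_
  obtain ⟨y, hy, hyc⟩ := (isClosed_closure (s := ({x} : Set X))).exists_closed_singleton
    ⟨x, subset_closure rfl⟩
  obtain ⟨w, rfl⟩ : y ∈ Set.range ι.base := hh.2.2.1.symm ▸ hY y hyc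
  obtain ⟨U', hU', hyU', -⟩ := exists_isAffineOpen_mem_and_subset (x := ι.base w) (U := ⊤) trivial
  have hxy : x ⤳ ι.base w := specializes_iff_mem_closure.mpr hy
  have hxU' : x ∈ U' := hxy.mem_open U'.2 hyU'
  obtain ⟨r, m, hr, hrm⟩ := M1.exists_germ_smul_eq F hU' hxU' (F.presheaf.germ U x hx s)
  obtain ⟨W, hxW, hWU', hWU, he⟩ := F.presheaf.germ_eq x hxU' hxU' (r • M1.mres F le_rfl m) (r • m)
    (by rw [M1.mres_id])
  obtain ⟨W', hxW', i₁, i₂, he'⟩ := F.presheaf.germ_eq x (show x ∈ U ⊓ U' from ⟨hx, hxU'⟩) hxU'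
    (M1.ores (inf_le_right : U ⊓ U' ≤ U') r • M1.mres F (inf_le_left : U ⊓ U' ≤ U) s) m (by
      rw [M1.germ_smul, M1.germ_mres, ← hrm]
      exact congrArg (· • _) (X.presheaf.germ_res_apply _ _ _ r))
  have hdy := germ_app_eq_of_pull_eq ι F G φ ψ h m w hyU' (hfl w)
  obtain ⟨W'', hyW'', j₁, j₂, hd⟩ := G.presheaf.germ_eq (ι.base w) hyU' hyU' _ _ hdy
  have hxW'' : x ∈ W'' := hxy.mem_open W''.2 hyW''
  have hdx : G.presheaf.germ U' x hxU' (φ.app U' m) = G.presheaf.germ U' x hxU' (ψ.app U' m) := by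
    rw [← G.presheaf.germ_res_apply j₁ x hxW'', ← G.presheaf.germ_res_apply j₂ x hxW'']
    exact congrArg _ hd
  have key : ∀ θ : F ⟶ G, X.presheaf.germ U' x hxU' r • G.presheaf.germ U x hx (θ.app U s) =
      G.presheaf.germ U' x hxU' (θ.app U' m) := fun θ => by
    rw [← G.presheaf.germ_res_apply i₂ x hxW', ← M1.germ_mres G (inf_le_left : U ⊓ U' ≤ U)
      (show x ∈ U ⊓ U' from ⟨hx, hxU'⟩), ← X.presheaf.germ_res_apply
      (homOfLE (inf_le_right : U ⊓ U' ≤ U')) x ⟨hx, hxU'⟩, ← M1.germ_smul,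
      ← G.presheaf.germ_res_apply i₁ x hxW']
    refine congrArg _ ?_
    rw [← M1.app_mres, ← θ.app_smul]
    refine (M1.map_app_eq θ i₁.le _).symm.trans ?_
    refine Eq.trans ?_ (M1.map_app_eq θ i₂.le _)
    exact congrArg _ he'
  exact hr.smul_left_cancel.mp ((key φ).trans (hdx.trans (key ψ).symm))

end Groth.Agent.HensSchH7
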