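import Groth.Agent.Lib.HensSchH7.Good
import Groth.Agent.Lib.HensGlue6.Away
import Groth.Agent.Lib.FormalModH7.LocFlat

/-!
# The inverse image of modules along a Henselization is exact
-/

set_option autoImplicit false
set_option backward.isDefEq.respectTransparency false
universe u

open CategoryTheory Opposite TopologicalSpace Topology AlgebraicGeometry

namespace Groth.Agent.HensSchH7

/-- A morphism which is an embedding and is flat on sections over small opens has exact inverse image. -/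
theorem isFlat_rmor_of_basis {X Y : LocallyRingedSpace.{u}} (g : X ⟶ Y) (hemb : IsEmbedding g.base)
    (h : ∀ (x : X) (U : Opens Y), g.base x ∈ U →
      ∃ O : Opens Y, g.base x ∈ O ∧ O ≤ U ∧ (appLE g O ((Opens.map g.base).obj O) le_rfl).Flat) :
    ModSite.RMor.IsFlat (HensSch.rmor g) := by
  refine FormalModH7.isFlat_of_locFlat fun W V₀ u₀ => ?_
  obtain ⟨U₀, hU₀, hUW⟩ := hemb.isOpen_iff.mp W.2
  let P : Opens X → Prop := fun W' => ∃ O : Opens Y, O ≤ V₀ ∧ (Opens.map g.base).obj O ≤ W ∧
    (appLE g O ((Opens.map g.base).obj O) le_rfl).Flat ∧ W' ≤ (Opens.map g.base).obj O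
  let T : Sieve W :=
    { arrows := fun W' _ => P W'
      downward_closed := by
        intro W' W'' f hf k
        obtain ⟨O, h1, h2, h3, h4⟩ := hf
        exact ⟨O, h1, h2, h3, k.le.trans h4⟩ }
  refine ⟨T, fun x hx => ?_, fun W' k hk => ?_⟩
  · have hxU : x ∈ g.base ⁻¹' U₀ := hUW.symm ▸ hx
    obtain ⟨O, hxO, hOU, hfl⟩ := h x (⟨U₀, hU₀⟩ ⊓ V₀) ⟨hxU, u₀.le hx⟩
    have hOW : (Opens.map g.base).obj O ≤ W := fun w hw =>
      (Set.ext_iff.mp hUW w).mp (hOU hw).1
    exact ⟨(Opens.map g.base).obj O, homOfLE hOW, ⟨O, hOU.trans inf_le_right, hOW, hfl, le_rfl⟩, hxO⟩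
  · obtain ⟨O, h1, h2, h3, h4⟩ := hk
    exact ⟨(Opens.map g.base).obj O, homOfLE h4, homOfLE h2, O, homOfLE h1, 𝟙 _,
      Subsingleton.elim _ _, Subsingleton.elim _ _, h3⟩

theorem flat_of_comp_away (R : CommRingCat.{u}) (f : R) {P : Type u} [CommRing P]
    (φ : Γ(Spec R, PrimeSpectrum.basicOpen f) →+* P)
    (h : (φ.comp (algebraMap R Γ(Spec R, PrimeSpectrum.basicOpen f))).Flat) : φ.Flat := by
  let S := Γ(Spec R, PrimeSpectrum.basicOpen f)
  letI : Algebra S P := φ.toAlgebra
  letI : Algebra R P := (φ.comp (algebraMap R S)).toAlgebra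
  haveI : IsScalarTower R S P := IsScalarTower.of_algebraMap_eq' rfl
  have h' : Module.Flat R P := h
  exact (Module.flat_iff_of_isLocalization S (Submonoid.powers f) P).mpr h'

/-- Flatness on the distinguished opens of an affine Henselian spectrum. -/
theorem flat_appLE_basicOpen {A : Type u} [CommRing A] {I : Ideal A} {V : LocallyRingedSpace.{u}}
    {π : V ⟶ HensSch.specLRS A} (hs : HensSch.IsSph A I V π) (f : A) :
    (appLE π (PrimeSpectrum.basicOpen f) (HensSch.dOpen π f) le_rfl).Flat := by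
  letI : Algebra A (Sec V (HensSch.dOpen π f)) :=
    (HensSch.secMap π (PrimeSpectrum.basicOpen f)).toAlgebra
  have hP : HensGlue6.IsAway I f (Sec V (HensSch.dOpen π f)) := hs.2.2 f
  have hfl : (HensSch.secMap π (PrimeSpectrum.basicOpen f)).Flat := hP.flat
  rw [secMap_eq] at hfl
  exact flat_of_comp_away (CommRingCat.of A) f _ hfl

/-- The structure map of an affine Henselian spectrum has exact inverse image. -/
theorem isFlat_rmor_sph {A : Type u} [CommRing A] {I : Ideal A} {V : LocallyRingedSpace.{u}}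
    {π : V ⟶ HensSch.specLRS A} (hs : HensSch.IsSph A I V π) :
    ModSite.RMor.IsFlat (HensSch.rmor π) := by
  refine isFlat_rmor_of_basis π hs.1 fun x U hx => ?_
  obtain ⟨-, ⟨f, rfl⟩, hpf, hfU⟩ :=
    PrimeSpectrum.isTopologicalBasis_basic_opens.exists_subset_of_mem_open (u := (U.1 : Set (PrimeSpectrum A))) (show π.base x ∈ U.1 from hx) U.2
  exact ⟨PrimeSpectrum.basicOpen f, hpf, hfU, flat_appLE_basicOpen hs f⟩

variable {X : Scheme.{u}} {Y : Set X} {Xh : LocallyRingedSpace.{u}}
  {ι : Xh ⟶ X.toLocallyRingedSpace}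

/-- Flatness of a Henselization on the sections over a chart open. -/
theorem flat_appLE_chart {A : Type u} [CommRing A] (j : Spec (CommRingCat.of A) ⟶ X)
    [IsOpenImmersion j] {V : LocallyRingedSpace.{u}} (v : V ⟶ Xh)
    [LocallyRingedSpace.IsOpenImmersion v] (π : V ⟶ HensSch.specLRS A)
    (hr : Set.range v.base = ι.base ⁻¹' Set.range j.base) (hc : v ≫ ι = π ≫ j.toLRSHom)
    (hs : HensSch.IsSph A (PrimeSpectrum.vanishingIdeal (j.base ⁻¹' Y)) V π) (f : A) :
    (appLE ι (j ''ᵁ PrimeSpectrum.basicOpen f : Opens X.toLocallyRingedSpace)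
      ((Opens.map ι.base).obj _) le_rfl).Flat := by
  let D : Opens (HensSch.specLRS A) := PrimeSpectrum.basicOpen f
  let O : Opens X.toLocallyRingedSpace := j ''ᵁ PrimeSpectrum.basicOpen f
  let O' : Opens Xh := (Opens.map ι.base).obj O
  let P : Opens V := HensSch.dOpen π f
  have hjO : D = (Opens.map j.toLRSHom.base).obj O :=
    Opens.ext (Set.preimage_image_eq _ j.isOpenEmbedding.injective).symm
  have hP : P = (Opens.map v.base).obj O' := by
    refine Opens.ext (Set.ext fun w => ?_)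
    show π.base w ∈ D ↔ ι.base (v.base w) ∈ O
    rw [show ι.base (v.base w) = (v ≫ ι).base w from rfl, hc, hjO]
    rfl
  have hα : Function.Bijective (appLE j.toLRSHom O D hjO.le) :=
    have : LocallyRingedSpace.IsOpenImmersion j.toLRSHom :=
      inferInstanceAs (IsOpenImmersion j)
    appLE_bijective _ hjO (Set.image_subset_range _ _)
  have hβ : Function.Bijective (appLE v O' P hP.le) :=
    appLE_bijective _ hP (by
      rw [hr]
      exact fun w hw => Set.image_subset_range _ _ hw)
  have key : ((appLE π D P le_rfl).comp (appLE j.toLRSHom O D hjO.le)) =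
      (appLE v O' P hP.le).comp (appLE ι O O' le_rfl) := by
    have h₁ := appLE_comp v ι (U := O) (V := O') (W := P) hP.le le_rfl hP.le
    have h₂ := appLE_comp π j.toLRSHom (U := O) (V := D) (W := P) le_rfl hjO.le
      (le_trans (le_of_eq rfl) ((Opens.map π.base).map (homOfLE hjO.le)).le)
    rw [appLE_congr hc.symm O P _ hP.le, h₁] at h₂
    exact h₂.symm
  let β := RingEquiv.ofBijective _ hβ
  have : appLE ι O O' le_rfl =
      β.symm.toRingHom.comp ((appLE π D P le_rfl).comp (appLE j.toLRSHom O D hjO.le)) := by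
    rw [key]
    exact RingHom.ext fun t => (β.symm_apply_apply _).symm
  rw [this]
  exact RingHom.Flat.comp (RingHom.Flat.comp (RingHom.Flat.of_bijective hα)
    (flat_appLE_basicOpen hs f)) (RingHom.Flat.of_bijective β.symm.bijective)

/-- The inverse image along a Henselization is exact. -/
theorem isFlat_rmor_hens (hh : HensSch.IsHenselizationAlong X Y Xh ι) :
    ModSite.RMor.IsFlat (HensSch.rmor ι) := by
  refine isFlat_rmor_of_basis ι hh.2.1 fun x U hx => ?_
  have hxY : ι.base x ∈ Y := hh.2.2.1 ▸ ⟨x, rfl⟩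
  obtain ⟨A, _, j, _, ⟨p, hp⟩, V, v, _, π, hr, hc, hs⟩ := hh.2.2.2 _ hxY
  obtain ⟨-, ⟨f, rfl⟩, hpf, hfU⟩ := PrimeSpectrum.isTopologicalBasis_basic_opens.exists_subset_of_mem_open
    (u := j.base ⁻¹' U.1) (show j.base p ∈ U.1 from hp ▸ hx) (U.2.preimage j.base.hom.continuous)
  exact ⟨j ''ᵁ PrimeSpectrum.basicOpen f, ⟨p, hpf, hp⟩,
    fun z hz => by obtain ⟨q, hq, rfl⟩ := hz; exact hfU hq, flat_appLE_chart j v π hr hc hs f⟩

end Groth.Agent.HensSchH7
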