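import Groth.Agent.Lib.HensSchH7.LRS
import Groth.Agent.Lib.HensSchH7.Alg
import Mathlib.AlgebraicGeometry.AffineScheme

/-!
Opens of a scheme over which a Henselization has the universal property on sections.
-/

universe u

open CategoryTheory Opposite TopologicalSpace Topology AlgebraicGeometry

namespace Groth.Agent.HensSchH7

theorem appLE_bijective {X Y : LocallyRingedSpace.{u}} (v : X ⟶ Y)
    [LocallyRingedSpace.IsOpenImmersion v] {U : Opens Y} {W : Opens X}
    (hW : W = (Opens.map v.base).obj U) (hU : (U : Set Y) ⊆ Set.range v.base) :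
    Function.Bijective (appLE v U W hW.le) := by
  subst hW
  have hv : PresheafedSpace.IsOpenImmersion v.toHom :=
    inferInstanceAs (PresheafedSpace.IsOpenImmersion v.toShHom.hom)
  have : IsIso (v.c.app (op U)) := PresheafedSpace.IsOpenImmersion.c_iso' v.toHom
    ((Opens.map v.base).obj U) (Opens.ext (Set.image_preimage_eq_of_subset hU).symm)
  have hb : Function.Bijective (v.c.app (op U)).hom := ConcreteCategory.bijective_of_isIso (v.c.app (op U))
  refine ⟨fun a b h => hb.1 ?_, fun b => ?_⟩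
  · rw [appLE_def, appLE_def, res_self, res_self] at h
    exact h
  · obtain ⟨a, ha⟩ := hb.2 b
    exact ⟨a, by rw [appLE_def, res_self]; exact ha⟩

variable (X : Scheme.{u}) (Y : Set X) {Xh : LocallyRingedSpace.{u}}
  (ι : Xh ⟶ X.toLocallyRingedSpace)

/-- `O` is good if maps from its sections to Henselian pairs, killing what vanishes on `Y`,
extend uniquely to the sections of `Xh`. -/
def Good (O : Opens X.toLocallyRingedSpace) : Prop :=
  ∀ (C : Type u) [CommRing C] (J : Ideal C) (φ : Sec X.toLocallyRingedSpace O →+* C),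
    HenselianRing C J →
    (∀ s, (∀ y ∈ Y, y ∉ X.toLocallyRingedSpace.toRingedSpace.basicOpen s) → φ s ∈ J) →
    ∃! h : Sec Xh ((Opens.map ι.base).obj O) →+* C, h.comp (appLE ι O _ le_rfl) = φ

variable {X Y ι}

/-- The map from `A` to sections over an open of its spectrum. -/
noncomputable def toSec (A : Type u) [CommRing A] (U : Opens (PrimeSpectrum A)) :
    A →+* Sec (HensSch.specLRS A) U :=
  (res (HensSch.specLRS A) (le_top : U ≤ ⊤)).comp
    (Scheme.ΓSpecIso (CommRingCat.of A)).inv.hom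

theorem spec_isUnit (R : CommRingCat.{u}) (f : R) :
    IsUnit (((Scheme.ΓSpecIso R).inv ≫
      (Spec R).presheaf.map (homOfLE le_top).op).hom f :
        Γ(Spec R, PrimeSpectrum.basicOpen f)) :=
  IsLocalization.Away.algebraMap_isUnit (S := Γ(Spec R, PrimeSpectrum.basicOpen f)) f

theorem spec_ext (R : CommRingCat.{u}) (f : R) {C : Type u} [CommRing C]
    {g₁ g₂ : Γ(Spec R, PrimeSpectrum.basicOpen f) →+* C}
    (h : g₁.comp (algebraMap R Γ(Spec R, PrimeSpectrum.basicOpen f)) =
      g₂.comp (algebraMap R Γ(Spec R, PrimeSpectrum.basicOpen f))) : g₁ = g₂ :=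
  IsLocalization.ringHom_ext (Submonoid.powers f) h

theorem toSec_isUnit {A : Type u} [CommRing A] (f : A) :
    IsUnit (toSec A (PrimeSpectrum.basicOpen f) f) :=
  spec_isUnit (CommRingCat.of A) f

theorem toSec_ext {A : Type u} [CommRing A] (f : A) {C : Type u} [CommRing C]
    {g₁ g₂ : Sec (HensSch.specLRS A) (PrimeSpectrum.basicOpen f) →+* C}
    (h : g₁.comp (toSec A _) = g₂.comp (toSec A _)) : g₁ = g₂ :=
  spec_ext (CommRingCat.of A) f h

theorem secMap_eq {A : Type u} [CommRing A] {V : LocallyRingedSpace.{u}} (π : V ⟶ HensSch.specLRS A)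
    (U : Opens (PrimeSpectrum A)) :
    HensSch.secMap π U = (appLE π U ((Opens.map π.base).obj U) le_rfl).comp
      (toSec A U) := by
  refine RingHom.ext fun a => ?_
  exact (congr($(appLE_res π (le_top : U ≤ ⊤) (W := (Opens.map π.base).obj U) le_rfl)
    ((Scheme.ΓSpecIso (CommRingCat.of A)).inv a))).symm

theorem basicOpen_toSec {A : Type u} [CommRing A] {U : Opens (PrimeSpectrum A)}
    {p : PrimeSpectrum A} (hp : p ∈ U) (s : A) :
    p ∈ (HensSch.specLRS A).toRingedSpace.basicOpen (toSec A U s) ↔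
      p ∈ PrimeSpectrum.basicOpen s := by
  refine (mem_basicOpen_res (X := HensSch.specLRS A) (le_top : U ≤ ⊤) hp
    ((Scheme.ΓSpecIso (CommRingCat.of A)).inv s)).trans ?_
  show p ∈ (Spec (CommRingCat.of A)).basicOpen ((Scheme.ΓSpecIso (CommRingCat.of A)).inv s) ↔ _
  rw [basicOpen_eq_of_affine]
  rfl

theorem good_chart {A : Type u} [CommRing A] (j : Spec (CommRingCat.of A) ⟶ X) [IsOpenImmersion j]
    {V : LocallyRingedSpace.{u}} (v : V ⟶ Xh) [LocallyRingedSpace.IsOpenImmersion v]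
    (π : V ⟶ HensSch.specLRS A) (hr : Set.range v.base = ι.base ⁻¹' Set.range j.base)
    (hc : v ≫ ι = π ≫ j.toLRSHom)
    (hs : HensSch.IsSph A (PrimeSpectrum.vanishingIdeal (j.base ⁻¹' Y)) V π) (f : A) :
    Good X Y ι (j ''ᵁ PrimeSpectrum.basicOpen f) := by
  intro C _ J φ hJ hφ
  let D : Opens (HensSch.specLRS A) := PrimeSpectrum.basicOpen f
  let O : Opens X.toLocallyRingedSpace := j ''ᵁ PrimeSpectrum.basicOpen f
  let O' : Opens Xh := (Opens.map ι.base).obj O
  let P : Opens V := HensSch.dOpen π f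
  have hjO : D = (Opens.map j.toLRSHom.base).obj O :=
    Opens.ext (Set.preimage_image_eq _ j.isOpenEmbedding.injective).symm
  have hP : P = (Opens.map v.base).obj O' := by
    refine Opens.ext (Set.ext fun w => ?_)
    show π.base w ∈ D ↔ ι.base (v.base w) ∈ O
    rw [show ι.base (v.base w) = (v ≫ ι).base w from rfl, hc, hjO]
    rfl
  have hα : Function.Bijective (appLE j.toLRSHom O D hjO.le) :=
    have : LocallyRingedSpace.IsOpenImmersion j.toLRSHom :=
      inferInstanceAs (IsOpenImmersion j)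
    appLE_bijective _ hjO (Set.image_subset_range _ _)
  have hβ : Function.Bijective (appLE v O' P hP.le) :=
    appLE_bijective _ hP (by
      rw [hr]
      exact fun w hw => Set.image_subset_range _ _ hw)
  let α := RingEquiv.ofBijective _ hα
  let β := RingEquiv.ofBijective _ hβ
  let φ' : Sec (HensSch.specLRS A) D →+* C := φ.comp α.symm.toRingHom
  have hφ' : ∀ t, φ' (appLE j.toLRSHom O D hjO.le t) = φ t := fun t =>
    congrArg φ (α.symm_apply_apply t)
  let a : A →+* Sec (HensSch.specLRS A) D := toSec A D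
  have hsm : HensSch.secMap π (PrimeSpectrum.basicOpen f) = (appLE π D P le_rfl).comp a :=
    secMap_eq π _
  have key : ∀ t, appLE v O' P hP.le (appLE ι O O' le_rfl t) =
      appLE π D P le_rfl (appLE j.toLRSHom O D hjO.le t) := by
    intro t
    have h₁ := appLE_comp v ι (U := O) (V := O') (W := P) hP.le le_rfl hP.le
    have h₂ := appLE_comp π j.toLRSHom (U := O) (V := D) (W := P) le_rfl hjO.le
      (le_trans (le_of_eq rfl) ((Opens.map π.base).map (homOfLE hjO.le)).le)
    rw [appLE_congr hc.symm O P _ hP.le, h₁] at h₂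
    exact congr($h₂ t)
  obtain ⟨-, -, huniv⟩ := hs.2.2 f
  obtain ⟨h₀, hh₀, hh₀u⟩ := huniv C J (φ'.comp a) hJ (by
      rw [Ideal.map_le_iff_le_comap]
      intro s hs'
      refine hφ _ fun y hy hyb => ?_
      obtain ⟨p, hpD, rfl⟩ := X.toLocallyRingedSpace.toRingedSpace.basicOpen_le _ hyb
      have h1 := (mem_basicOpen_appLE j.toLRSHom hjO.le (x := p) hpD _).mpr hyb
      rw [show appLE j.toLRSHom O D hjO.le (α.symm.toRingHom (a s)) = a s from
        α.apply_symm_apply _] at h1
      exact ((basicOpen_toSec hpD s).mp h1)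
        ((PrimeSpectrum.mem_vanishingIdeal _ _).mp hs' p hy))
    ((toSec_isUnit f).map φ')
  rw [hsm, ← RingHom.comp_assoc] at hh₀
  have hh₀' : h₀.comp (appLE π D P le_rfl) = φ' :=
    toSec_ext f hh₀
  refine ⟨h₀.comp (appLE v O' P hP.le), ?_, fun h' hh' => ?_⟩
  · refine RingHom.ext fun t => ?_
    show h₀ (appLE v O' P hP.le (appLE ι O O' le_rfl t)) = φ t
    rw [key, show h₀ (appLE π D P le_rfl (appLE j.toLRSHom O D hjO.le t)) =
      φ' (appLE j.toLRSHom O D hjO.le t) from congr($hh₀' _), hφ']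
  · have : h'.comp β.symm.toRingHom = h₀ := hh₀u _ (by
      rw [hsm]
      refine RingHom.ext fun x => ?_
      obtain ⟨t, ht⟩ := hα.2 (a x)
      show h' (β.symm (appLE π D P le_rfl (a x))) = φ' (a x)
      rw [← ht, ← key, hφ', show β.symm (appLE v O' P hP.le (appLE ι O O' le_rfl t)) =
        appLE ι O O' le_rfl t from β.symm_apply_apply _]
      exact congr($hh' t))
    rw [← this]
    refine RingHom.ext fun x => ?_
    exact congrArg h' (β.symm_apply_apply x).symm

theorem exists_good (hh : HensSch.IsHenselizationAlong X Y Xh ι) {y : X} (hy : y ∈ Y)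
    (U : Opens X.toLocallyRingedSpace) (hU : y ∈ U) :
    ∃ O : Opens X.toLocallyRingedSpace, y ∈ O ∧ O ≤ U ∧ Good X Y ι O := by
  obtain ⟨A, _, j, _, hyj, V, v, _, π, hr, hc, hs⟩ := hh.2.2.2 y hy
  obtain ⟨p, rfl⟩ := hyj
  obtain ⟨-, ⟨f, rfl⟩, hpf, hfU⟩ := PrimeSpectrum.isTopologicalBasis_basic_opens.exists_subset_of_mem_open
    (u := j.base ⁻¹' U.1) (show p ∈ j.base ⁻¹' U.1 from hU) (U.2.preimage j.base.hom.continuous)
  exact ⟨j ''ᵁ PrimeSpectrum.basicOpen f, ⟨p, hpf, rfl⟩,
    fun z hz => by obtain ⟨q, hq, rfl⟩ := hz; exact hfU hq, good_chart j v π hr hc hs f⟩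

theorem isBasis_good (hh : HensSch.IsHenselizationAlong X Y Xh ι) :
    Opens.IsBasis (Set.range fun O : {O // Good X Y ι O} => (Opens.map ι.base).obj O.1) := by
  rw [Opens.isBasis_iff_nbhd]
  intro U w hw
  obtain ⟨U₀, hU₀, hUU⟩ := hh.2.1.isOpen_iff.mp U.2
  obtain ⟨O, hwO, hOU, hO⟩ := exists_good hh (y := ι.base w) (hh.2.2.1 ▸ ⟨w, rfl⟩) ⟨U₀, hU₀⟩
    ((Set.ext_iff.mp hUU w).mpr hw)
  exact ⟨_, ⟨⟨O, hO⟩, rfl⟩, hwO, fun x hx => (Set.ext_iff.mp hUU x).mp (hOU hx)⟩

/-- Two ways of evaluating on the sections of `Xh` vanish simultaneously. -/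
theorem Good.eq_zero_iff {O : Opens X.toLocallyRingedSpace} (hO : Good X Y ι O)
    (hh : HensSch.IsHenselizationAlong X Y Xh ι) {v : Xh} (hv : ι.base v ∈ O)
    {L : Type u} [Field L] (k : Sec Xh ((Opens.map ι.base).obj O) →+* L)
    {y : X} (hy : y ∈ O) (hyv : y = ι.base v) (ρ : X.toLocallyRingedSpace.residueField y →+* L)
    (hk : k.comp (appLE ι O _ le_rfl) = ρ.comp (ev X.toLocallyRingedSpace y hy))
    (s : Sec Xh ((Opens.map ι.base).obj O)) :
    k s = 0 ↔ v ∉ Xh.toRingedSpace.basicOpen s := by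
  subst hyv
  have hvY : ι.base v ∈ Y := hh.2.2.1 ▸ ⟨v, rfl⟩
  obtain ⟨e, he, -⟩ := hO _ ⊥ (ev X.toLocallyRingedSpace (ι.base v) hy) Hens.henselianRing_bot
    (fun t ht => Ideal.mem_bot.mpr ((ev_eq_zero hy t).mpr (ht _ hvY)))
  have uniq : ∀ {M : Type u} [Field M] (k₁ : Sec Xh ((Opens.map ι.base).obj O) →+* M)
      (σ : X.toLocallyRingedSpace.residueField (ι.base v) →+* M),
      k₁.comp (appLE ι O _ le_rfl) = σ.comp (ev X.toLocallyRingedSpace (ι.base v) hy) →
      k₁ = σ.comp e := by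
    intro M _ k₁ σ hk₁
    obtain ⟨_, -, hu⟩ := hO M ⊥ (σ.comp (ev X.toLocallyRingedSpace (ι.base v) hy))
      Hens.henselianRing_bot (fun t ht => Ideal.mem_bot.mpr (by
        rw [RingHom.comp_apply, (ev_eq_zero hy t).mpr (ht _ hvY), map_zero]))
    rw [hu k₁ hk₁, hu (σ.comp e) (RingHom.ext fun t => congrArg σ congr($he t))]
  rw [← ev_eq_zero (show v ∈ (Opens.map ι.base).obj O from hv),
    uniq k ρ hk, uniq (ev Xh v hv) _ (ev_appLE ι le_rfl hv), RingHom.comp_apply,
    RingHom.comp_apply]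
  exact (map_eq_zero ρ).trans (map_eq_zero _).symm

end Groth.Agent.HensSchH7
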