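import Groth.Prelude.Def_HensSch
import Mathlib.Geometry.RingedSpace.LocallyRingedSpace.ResidueField
import Mathlib.Topology.Sheaves.SheafCondition.Sites

/-!
Sections, restriction maps, and evaluation on locally ringed spaces.
-/

universe u

open CategoryTheory Opposite TopologicalSpace AlgebraicGeometry

namespace Groth.Agent.HensSchH7

variable {X Y Z : LocallyRingedSpace.{u}}

/-- Sections. -/
abbrev Sec (X : LocallyRingedSpace.{u}) (U : Opens X) : Type u := X.presheaf.obj (op U)

/-- Restriction. -/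
def res (X : LocallyRingedSpace.{u}) {U W : Opens X} (h : W ≤ U) : Sec X U →+* Sec X W :=
  (X.presheaf.map (homOfLE h).op).hom

theorem res_res {U V W : Opens X} (h : V ≤ U) (h' : W ≤ V) (s : Sec X U) :
    res X h' (res X h s) = res X (h'.trans h) s := by
  show (X.presheaf.map _ ≫ X.presheaf.map _) s = _
  rw [← X.presheaf.map_comp]
  rfl

theorem res_comp {U V W : Opens X} (h : V ≤ U) (h' : W ≤ V) :
    (res X h').comp (res X h) = res X (h'.trans h) :=
  RingHom.ext (res_res h h')

theorem res_self {U : Opens X} (h : U ≤ U) (s : Sec X U) : res X h s = s := by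
  show X.presheaf.map (𝟙 (op U)) s = s
  rw [X.presheaf.map_id]
  rfl

/-- The map on sections induced by a morphism. -/
noncomputable def appLE (f : X ⟶ Y) (U : Opens Y) (W : Opens X)
    (e : W ≤ (Opens.map f.base).obj U) : Sec Y U →+* Sec X W :=
  (res X e).comp (f.c.app (op U)).hom

theorem appLE_def (f : X ⟶ Y) (U : Opens Y) (W : Opens X) (e) (s : Sec Y U) :
    appLE f U W e s = res X e (f.c.app (op U) s) := rfl

theorem res_appLE (f : X ⟶ Y) {U : Opens Y} {W W' : Opens X} (e : W ≤ (Opens.map f.base).obj U)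
    (h : W' ≤ W) : (res X h).comp (appLE f U W e) = appLE f U W' (h.trans e) := by
  rw [appLE, ← RingHom.comp_assoc, res_comp]
  rfl

theorem appLE_res (f : X ⟶ Y) {U U' : Opens Y} {W : Opens X} (h : U' ≤ U)
    (e : W ≤ (Opens.map f.base).obj U') :
    (appLE f U' W e).comp (res Y h) =
      appLE f U W (e.trans ((Opens.map f.base).map (homOfLE h)).le) := by
  refine RingHom.ext fun s => ?_
  show res X e ((Y.presheaf.map (homOfLE h).op ≫ f.c.app (op U')) s) = _
  rw [f.c.naturality]
  exact res_res (((Opens.map f.base).map (homOfLE h)).le) e _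

theorem appLE_congr {f g : X ⟶ Y} (h : f = g) (U : Opens Y) (W : Opens X) (e) (e') :
    appLE f U W e = appLE g U W e' := by
  subst h
  rfl

theorem appLE_comp (f : X ⟶ Y) (g : Y ⟶ Z) {U : Opens Z} {V : Opens Y} {W : Opens X}
    (e : W ≤ (Opens.map f.base).obj V) (e' : V ≤ (Opens.map g.base).obj U) (e'') :
    appLE (f ≫ g) U W e'' = (appLE f V W e).comp (appLE g U V e') := by
  refine RingHom.ext fun s => ?_
  rw [RingHom.comp_apply, appLE_def g U V e' s]
  exact (congr($(appLE_res f e' e) (g.c.app (op U) s))).symm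

/-- Evaluation, as a ring map. -/
noncomputable abbrev ev (X : LocallyRingedSpace.{u}) {U : Opens X} (x : X) (hx : x ∈ U) :
    Sec X U →+* X.residueField x :=
  (X.evaluation (⟨x, hx⟩ : U)).hom

theorem ev_eq_zero {U : Opens X} {x : X} (hx : x ∈ U) (s : Sec X U) :
    ev X x hx s = 0 ↔ x ∉ X.toRingedSpace.basicOpen s :=
  X.evaluation_eq_zero_iff_notMem_basicOpen ⟨x, hx⟩ s

theorem mem_basicOpen_res {U W : Opens X} (h : W ≤ U) {x : X} (hx : x ∈ W) (s : Sec X U) :
    x ∈ X.toRingedSpace.basicOpen (res X h s) ↔ x ∈ X.toRingedSpace.basicOpen s := by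
  unfold res
  rw [X.toRingedSpace.basicOpen_res]
  exact ⟨fun h => h.2, fun h => ⟨hx, h⟩⟩

theorem mem_basicOpen_appLE (f : X ⟶ Y) {U : Opens Y} {W : Opens X}
    (e : W ≤ (Opens.map f.base).obj U) {x : X} (hx : x ∈ W) (s : Sec Y U) :
    x ∈ X.toRingedSpace.basicOpen (appLE f U W e s) ↔
      f.base x ∈ Y.toRingedSpace.basicOpen s := by
  refine (mem_basicOpen_res e hx (f.c.app (op U) s)).trans ?_
  exact (SetLike.ext_iff.mp (LocallyRingedSpace.preimage_basicOpen f s) x).symm

theorem ev_res {U W : Opens X} (h : W ≤ U) {x : X} (hx : x ∈ W) (s : Sec X U) :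
    ev X x hx (res X h s) = ev X x (h hx) s := by
  show X.residue x (X.presheaf.germ W x hx (X.presheaf.map (homOfLE h).op s)) = _
  rw [TopCat.Presheaf.germ_res_apply]
  rfl

theorem ev_appLE (f : X ⟶ Y) {U : Opens Y} {W : Opens X}
    (e : W ≤ (Opens.map f.base).obj U) {x : X} (hx : x ∈ W) :
    (ev X x hx).comp (appLE f U W e) =
      (LocallyRingedSpace.residueFieldMap f x).hom.comp (ev Y (f.base x) (e hx)) := by
  refine RingHom.ext fun s => ?_
  rw [RingHom.comp_apply, appLE_def, ev_res]
  exact (LocallyRingedSpace.evaluation_naturality_apply f ⟨x, e hx⟩ s).symm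

theorem isUnit_of_forall {U : Opens X} (s : Sec X U)
    (h : ∀ x ∈ U, x ∈ X.toRingedSpace.basicOpen s) : IsUnit s :=
  X.toRingedSpace.isUnit_of_isUnit_germ U s fun x hx =>
    (X.toRingedSpace.mem_basicOpen s x hx).mp (h x hx)

/-- The ideal of sections vanishing at every point. -/
noncomputable def van (X : LocallyRingedSpace.{u}) (U : Opens X) : Ideal (Sec X U) :=
  ⨅ x : U, RingHom.ker (ev X x.1 x.2)

theorem mem_van {U : Opens X} {s : Sec X U} :
    s ∈ van X U ↔ ∀ x ∈ U, x ∉ X.toRingedSpace.basicOpen s := by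
  simp only [van, Ideal.mem_iInf, RingHom.mem_ker, ev_eq_zero, Subtype.forall]

theorem van_le_jacobson (U : Opens X) : van X U ≤ Ideal.jacobson ⊥ := by
  intro s hs
  refine Ideal.mem_jacobson_bot.mpr fun t => isUnit_of_forall _ fun x hx => ?_
  by_contra hn
  rw [← ev_eq_zero hx, map_add, map_mul, (ev_eq_zero hx s).mpr (mem_van.mp hs x hx)] at hn
  simp at hn

theorem res_mem_van {U W : Opens X} (h : W ≤ U) {s : Sec X U} (hs : s ∈ van X U) :
    res X h s ∈ van X W :=
  mem_van.mpr fun x hx hxs => mem_van.mp hs x (h hx) ((mem_basicOpen_res h hx s).mp hxs)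

/-- Two morphisms with the same map of spaces agreeing on sections over a basis are equal. -/
theorem hom_ext_basis {f g : X ⟶ Y} (hb : f.base = g.base) {ι : Type u} {B : ι → Opens Y}
    (hB : Opens.IsBasis (Set.range B))
    (h : ∀ (i : ι) (W : Opens X) (e₁ : W ≤ (Opens.map f.base).obj (B i))
      (e₂ : W ≤ (Opens.map g.base).obj (B i)), appLE f (B i) W e₁ = appLE g (B i) W e₂) :
    f = g := by
  refine LocallyRingedSpace.Hom.ext' (PresheafedSpace.ext _ _ hb ?_)
  refine TopCat.Sheaf.hom_ext (F := Y.presheaf)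
    (F' := (TopCat.Sheaf.pushforward CommRingCat g.base).obj X.sheaf) hB fun i => ?_
  refine CommRingCat.hom_ext (RingHom.ext fun s => ?_)
  have := congr($(h i ((Opens.map g.base).obj (B i)) (le_of_eq (by rw [hb])) le_rfl) s)
  rw [appLE_def g, res_self] at this
  refine Eq.trans ?_ this
  show (f.c.app (op (B i)) ≫ X.presheaf.map _) s = _
  rfl

end Groth.Agent.HensSchH7
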