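import Groth.Agent.Lib.HensSchH7.Good
import Mathlib.Topology.Sheaves.SheafCondition.UniqueGluing

/-!
The sections of a Henselian scheme over any open form a Henselian pair.
-/

universe u

open CategoryTheory Opposite TopologicalSpace Topology AlgebraicGeometry Polynomial

namespace Groth.Agent.HensSchH7

variable {Z : LocallyRingedSpace.{u}}

theorem van_radical (U : Opens Z) : (van Z U).radical = van Z U := by
  refine le_antisymm (fun s ⟨n, hn⟩ => mem_van.mpr fun x hx => ?_) Ideal.le_radical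
  rw [← ev_eq_zero hx]
  have := (ev_eq_zero hx (s ^ n)).mpr (mem_van.mp hn x hx)
  rw [map_pow] at this
  exact (pow_eq_zero_iff'.mp this).1

section Sph

variable {A : Type u} [CommRing A] {I : Ideal A} {π : Z ⟶ HensSch.specLRS A}

theorem mem_basicOpen_secMap (f : A) {x : Z} (hx : x ∈ HensSch.dOpen π f) (s : A) :
    x ∈ Z.toRingedSpace.basicOpen (HensSch.secMap π (PrimeSpectrum.basicOpen f) s) ↔
      π.base x ∈ PrimeSpectrum.basicOpen s := by
  rw [secMap_eq π]
  exact (mem_basicOpen_appLE π le_rfl hx _).trans (basicOpen_toSec hx s)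

theorem van_dOpen (h : HensSch.IsSph A I Z π) (f : A) :
    van Z (HensSch.dOpen π f) =
      (I.map (HensSch.secMap π (PrimeSpectrum.basicOpen f))).radical := by
  set φ := HensSch.secMap π (PrimeSpectrum.basicOpen f)
  have hle : I.map φ ≤ van Z (HensSch.dOpen π f) := by
    rw [Ideal.map_le_iff_le_comap]
    refine fun s hs => mem_van.mpr fun x hx => ?_
    rw [mem_basicOpen_secMap f hx]
    have hx' : π.base x ∈ Set.range π.base := ⟨x, rfl⟩
    rw [h.2.1] at hx'
    exact fun hn => hn (hx' hs)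
  refine le_antisymm (fun b hb => ?_) (by rw [← van_radical]; exact Ideal.radical_mono hle)
  obtain ⟨a, n, han⟩ := exists_approx (h.2.2 f) b
  have hu : IsUnit (φ f) := (h.2.2 f).1
  have ha : φ a ∈ van Z (HensSch.dOpen π f) := by
    have := sub_mem (Ideal.mul_mem_right (φ f ^ n) _ hb) (hle han)
    rwa [sub_sub_cancel] at this
  have haf : a * f ∈ I.radical := by
    rw [← PrimeSpectrum.vanishingIdeal_zeroLocus_eq_radical, PrimeSpectrum.mem_vanishingIdeal]
    intro p hp
    by_cases hfp : f ∈ p.asIdeal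
    · exact Ideal.mul_mem_left _ _ hfp
    · rw [← h.2.1] at hp
      obtain ⟨x, rfl⟩ := hp
      refine Ideal.mul_mem_right _ _ ?_
      by_contra hap
      exact mem_van.mp ha x hfp ((mem_basicOpen_secMap f hfp a).mpr hap)
  have h1 : φ (a * f) ∈ (I.map φ).radical :=
    Ideal.map_radical_le φ (Ideal.mem_map_of_mem φ haf)
  rw [map_mul, Ideal.mul_unit_mem_iff_mem _ hu] at h1
  have h2 := add_mem (Ideal.le_radical han) h1
  rwa [sub_add_cancel, Ideal.mul_unit_mem_iff_mem _ (hu.pow n)] at h2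

theorem henselianRing_dOpen (h : HensSch.IsSph A I Z π) (f : A) :
    HenselianRing (Sec Z (HensSch.dOpen π f)) (van Z (HensSch.dOpen π f)) := by
  rw [van_dOpen h f]
  exact Hens.henselianRing_radical (h.2.2 f).2.1

end Sph

theorem henselianRing_of_openImmersion {U : LocallyRingedSpace.{u}} (i : U ⟶ Z)
    [LocallyRingedSpace.IsOpenImmersion i] {O : Opens Z} {P : Opens U}
    (hP : P = (Opens.map i.base).obj O) (hO : (O : Set Z) ⊆ Set.range i.base)
    (h : HenselianRing (Sec U P) (van U P)) : HenselianRing (Sec Z O) (van Z O) := by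
  have hb := appLE_bijective i hP hO
  suffices hK : (van U P).comap (RingEquiv.ofBijective _ hb).toRingHom = van Z O from
    hK ▸ henselianRing_equiv (RingEquiv.ofBijective _ hb) h
  ext s
  rw [Ideal.mem_comap, mem_van, mem_van]
  constructor
  · intro hs x hx
    obtain ⟨w, rfl⟩ := hO hx
    have hw : w ∈ P := hP ▸ hx
    exact fun hn => hs w hw ((mem_basicOpen_appLE i hP.le hw s).mpr hn)
  · intro hs w hw
    exact fun hn => hs (i.base w) (hP.le hw) ((mem_basicOpen_appLE i hP.le hw s).mp hn)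

theorem exists_henselian_nhd (hZ : HensSch.IsHensScheme Z) {z : Z} (W : Opens Z) (hz : z ∈ W) :
    ∃ O : Opens Z, z ∈ O ∧ O ≤ W ∧ HenselianRing (Sec Z O) (van Z O) := by
  obtain ⟨U, i, hi, ⟨w, rfl⟩, A, _, I, π, -, -, hs⟩ := hZ z
  have hio : IsOpenEmbedding i.base :=
    (show PresheafedSpace.IsOpenImmersion i.toShHom.hom from inferInstance).base_open
  obtain ⟨S, hS, hSW⟩ := hs.1.isOpen_iff.mp (W.2.preimage i.base.hom.continuous)
  obtain ⟨-, ⟨f, rfl⟩, hwf, hfS⟩ :=
    PrimeSpectrum.isTopologicalBasis_basic_opens.exists_subset_of_mem_open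
      ((Set.ext_iff.mp hSW w).mpr hz) hS
  let O : Opens Z := ⟨i.base '' (HensSch.dOpen π f : Set U),
    hio.isOpenMap _ (HensSch.dOpen π f).2⟩
  refine ⟨O, ⟨w, hwf, rfl⟩, ?_, henselianRing_of_openImmersion i
    (Opens.ext (Set.preimage_image_eq _ hio.injective).symm) (Set.image_subset_range _ _)
    (henselianRing_dOpen hs f)⟩
  rintro - ⟨q, hq, rfl⟩
  exact (Set.ext_iff.mp hSW q).mp (hfS hq)

theorem res_eval {U W : Opens Z} (h : W ≤ U) (f : (Sec Z U)[X]) (a : Sec Z U) :
    (f.map (res Z h)).eval (res Z h a) = res Z h (f.eval a) := by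
  rw [eval_map, eval₂_at_apply]

theorem henselianRing_sections (hZ : HensSch.IsHensScheme Z) (W : Opens Z) :
    HenselianRing (Sec Z W) (van Z W) := by
  refine ⟨van_le_jacobson W, fun f hf a₀ h₀ h₁ => ?_⟩
  have hu : IsUnit (f.derivative.eval a₀) := Hens.isUnit_of_isUnit_mk (van_le_jacobson W) h₁
  let ι := {O : Opens Z // O ≤ W ∧ HenselianRing (Sec Z O) (van Z O)}
  choose a ha haK using fun O : ι => O.2.2.is_henselian (f.map (res Z O.2.1)) (hf.map _)
    (res Z O.2.1 a₀) (by rw [res_eval]; exact res_mem_van _ h₀)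
    (by rw [derivative_map, res_eval]; exact (hu.map _).map _)
  have hcov : W ≤ iSup (fun O : ι => O.1) := fun z hz => by
    obtain ⟨O, hzO, hOW, hO⟩ := exists_henselian_nhd hZ W hz
    exact Opens.mem_iSup.mpr ⟨⟨O, hOW, hO⟩, hzO⟩
  obtain ⟨r, hr, -⟩ := Z.sheaf.existsUnique_gluing' (fun O : ι => O.1) W
    (fun O => homOfLE O.2.1) hcov a (by
    intro O₁ O₂
    have hl : O₁.1 ⊓ O₂.1 ≤ O₁.1 := inf_le_left
    have hr : O₁.1 ⊓ O₂.1 ≤ O₂.1 := inf_le_right
    show res Z hl (a O₁) = res Z hr (a O₂)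
    refine root_unique (f := f.map (res Z (hl.trans O₁.2.1)))
      (a₀ := res Z (hl.trans O₁.2.1) a₀) (van_le_jacobson _) ?_ ?_ ?_ ?_ ?_
    · rw [IsRoot.def, ← res_comp O₁.2.1 hl, ← Polynomial.map_map, res_eval, (ha O₁).eq_zero,
        map_zero]
    · rw [← res_res O₁.2.1 hl, ← map_sub]
      exact res_mem_van _ (haK O₁)
    · rw [IsRoot.def, show res Z (hl.trans O₁.2.1) = (res Z hr).comp (res Z O₂.2.1) from
        (res_comp _ _).symm, ← Polynomial.map_map, res_eval, (ha O₂).eq_zero, map_zero]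
    · rw [show res Z (hl.trans O₁.2.1) a₀ = res Z hr (res Z O₂.2.1 a₀) from
        (res_res _ _ _).symm, ← map_sub]
      exact res_mem_van _ (haK O₂)
    · rw [derivative_map, res_eval]
      exact (hu.map _).map _)
  have hr' : ∀ O : ι, res Z O.2.1 r = a O := hr
  refine ⟨r, ?_, mem_van.mpr fun z hz => ?_⟩
  · refine Z.sheaf.eq_of_locally_eq' (fun O : ι => O.1) W (fun O => homOfLE O.2.1) hcov _ _
      fun O => ?_
    show res Z O.2.1 (f.eval r) = res Z O.2.1 0
    rw [← res_eval, hr', (ha O).eq_zero, map_zero]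
  · obtain ⟨O, hzO, hOW, hO⟩ := exists_henselian_nhd hZ W hz
    have := mem_van.mp (haK ⟨O, hOW, hO⟩) z hzO
    rwa [← hr', ← map_sub, mem_basicOpen_res hOW hzO] at this

end Groth.Agent.HensSchH7
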