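import Groth.Agent.Lib.HensSchH7.Sections

/-!
The universal property of the Henselization of a scheme along a closed subset.
-/

universe u

open CategoryTheory Opposite TopologicalSpace Topology AlgebraicGeometry

namespace Groth.Agent.HensSchH7

/-- The data of a morphism from a Henselian scheme to a scheme with image in `Y`. -/
structure UnivData (X : Scheme.{u}) (Y : Set X) (Xh : LocallyRingedSpace.{u})
    (ι : Xh ⟶ X.toLocallyRingedSpace) where
  hh : HensSch.IsHenselizationAlong X Y Xh ι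
  Z : LocallyRingedSpace.{u}
  hZ : HensSch.IsHensScheme Z
  g : Z ⟶ X.toLocallyRingedSpace
  hg : Set.range g.base ⊆ Y

namespace UnivData

variable {X : Scheme.{u}} {Y : Set X} {Xh : LocallyRingedSpace.{u}}
  {ι : Xh ⟶ X.toLocallyRingedSpace} (D : UnivData X Y Xh ι)

theorem lift_exists {O : Opens X.toLocallyRingedSpace} (hO : Good X Y ι O) (W : Opens D.Z)
    (e : W ≤ (Opens.map D.g.base).obj O) :
    ∃! h : Sec Xh ((Opens.map ι.base).obj O) →+* Sec D.Z W,
      h.comp (appLE ι O _ le_rfl) = appLE D.g O W e :=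
  hO _ _ (appLE D.g O W e) (henselianRing_sections D.hZ W) fun s hs =>
    mem_van.mpr fun x hx hn => hs _ (D.hg ⟨x, rfl⟩) ((mem_basicOpen_appLE D.g e hx s).mp hn)

/-- The extension to sections of `Xh`. -/
noncomputable def lift {O : Opens X.toLocallyRingedSpace} (hO : Good X Y ι O) (W : Opens D.Z)
    (e : W ≤ (Opens.map D.g.base).obj O) :
    Sec Xh ((Opens.map ι.base).obj O) →+* Sec D.Z W :=
  (D.lift_exists hO W e).exists.choose

theorem lift_spec {O : Opens X.toLocallyRingedSpace} (hO : Good X Y ι O) (W : Opens D.Z)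
    (e : W ≤ (Opens.map D.g.base).obj O) :
    (D.lift hO W e).comp (appLE ι O _ le_rfl) = appLE D.g O W e :=
  (D.lift_exists hO W e).exists.choose_spec

theorem lift_uniq {O : Opens X.toLocallyRingedSpace} (hO : Good X Y ι O) (W : Opens D.Z)
    (e : W ≤ (Opens.map D.g.base).obj O)
    {h : Sec Xh ((Opens.map ι.base).obj O) →+* Sec D.Z W}
    (hh : h.comp (appLE ι O _ le_rfl) = appLE D.g O W e) : h = D.lift hO W e :=
  (D.lift_exists hO W e).unique hh (D.lift_spec hO W e)

theorem res_lift {O : Opens X.toLocallyRingedSpace} (hO : Good X Y ι O) {W W' : Opens D.Z}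
    (e : W ≤ (Opens.map D.g.base).obj O) (h : W' ≤ W) :
    (res D.Z h).comp (D.lift hO W e) = D.lift hO W' (h.trans e) :=
  D.lift_uniq hO W' _ (by rw [RingHom.comp_assoc, lift_spec, res_appLE])

theorem lift_mono {O O' : Opens X.toLocallyRingedSpace} (hO : Good X Y ι O)
    (hO' : Good X Y ι O') (hle : O' ≤ O) {W : Opens D.Z}
    (e : W ≤ (Opens.map D.g.base).obj O') :
    (D.lift hO' W e).comp (res Xh ((Opens.map ι.base).map (homOfLE hle)).le) =
      D.lift hO W (e.trans ((Opens.map D.g.base).map (homOfLE hle)).le) := by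
  refine D.lift_uniq hO W _ ?_
  rw [RingHom.comp_assoc, res_appLE, ← appLE_res ι hle (W := (Opens.map ι.base).obj O') le_rfl,
    ← RingHom.comp_assoc, lift_spec, appLE_res]

theorem lift_nat {O O' : Opens X.toLocallyRingedSpace} (hO : Good X Y ι O)
    (hO' : Good X Y ι O') (hle : (Opens.map ι.base).obj O' ≤ (Opens.map ι.base).obj O)
    {W : Opens D.Z} (e : W ≤ (Opens.map D.g.base).obj O)
    (e' : W ≤ (Opens.map D.g.base).obj O') :
    D.lift hO W e = (D.lift hO' W e').comp (res Xh hle) := by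
  refine RingHom.ext fun s => ?_
  let κ := {O'' : Opens X.toLocallyRingedSpace // O'' ≤ O ⊓ O' ∧ Good X Y ι O''}
  refine D.Z.sheaf.eq_of_locally_eq'
    (fun O'' : κ => W ⊓ (Opens.map D.g.base).obj O''.1) W (fun O'' => homOfLE inf_le_left) ?_ _ _
    fun O'' => ?_
  · intro z hz
    obtain ⟨O'', hzO, hle', hO''⟩ := exists_good D.hh (D.hg ⟨z, rfl⟩) (O ⊓ O') ⟨e hz, e' hz⟩
    exact Opens.mem_iSup.mpr ⟨⟨O'', hle', hO''⟩, hz, hzO⟩
  · have hW : W ⊓ (Opens.map D.g.base).obj O''.1 ≤ W := inf_le_left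
    show ((res D.Z hW).comp (D.lift hO W e)) s =
      ((res D.Z hW).comp (D.lift hO' W e')) (res Xh hle s)
    rw [res_lift, res_lift, ← D.lift_mono hO O''.2.2 (O''.2.1.trans inf_le_left) inf_le_right,
      ← D.lift_mono hO' O''.2.2 (O''.2.1.trans inf_le_right) inf_le_right, RingHom.comp_apply,
      RingHom.comp_apply, res_res]

/-- The underlying function. -/
noncomputable def fn (z : D.Z) : Xh :=
  (show D.g.base z ∈ Set.range ι.base from D.hh.2.2.1.symm ▸ D.hg ⟨z, rfl⟩).choose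

theorem ι_fn (z : D.Z) : ι.base (D.fn z) = D.g.base z :=
  (show D.g.base z ∈ Set.range ι.base from D.hh.2.2.1.symm ▸ D.hg ⟨z, rfl⟩).choose_spec

theorem continuous_fn : Continuous D.fn := by
  refine D.hh.2.1.continuous_iff.mpr ?_
  rw [show ⇑ι.base ∘ D.fn = ⇑D.g.base from funext D.ι_fn]
  exact D.g.base.hom.continuous

/-- The continuous map. -/
noncomputable def baseMap : D.Z.toTopCat ⟶ Xh.toTopCat := TopCat.ofHom ⟨D.fn, D.continuous_fn⟩

theorem map_le (O : Opens X.toLocallyRingedSpace) :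
    (Opens.map D.baseMap).obj ((Opens.map ι.base).obj O) ≤ (Opens.map D.g.base).obj O := by
  intro z hz
  show D.g.base z ∈ O
  rw [← D.ι_fn z]
  exact hz

/-- The basis of good opens. -/
abbrev B (O : {O : Opens X.toLocallyRingedSpace // Good X Y ι O}) : Opens Xh :=
  (Opens.map ι.base).obj O.1

/-- The maps on the basis. -/
noncomputable def basisHom :
    (inducedFunctor (B (X := X) (Y := Y) (ι := ι))).op ⋙ Xh.presheaf ⟶
      (inducedFunctor (B (X := X) (Y := Y) (ι := ι))).op ⋙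
        ((TopCat.Sheaf.pushforward CommRingCat D.baseMap).obj D.Z.sheaf).1 where
  app O := CommRingCat.ofHom (D.lift O.unop.2 _ (D.map_le O.unop.1))
  naturality O O' i := by
    refine CommRingCat.hom_ext ?_
    have hle : B O'.unop ≤ B O.unop := ((inducedFunctor B).map i.unop).le
    have hW : (Opens.map D.baseMap).obj (B O'.unop) ≤ (Opens.map D.baseMap).obj (B O.unop) :=
      ((Opens.map D.baseMap).map (homOfLE hle)).le
    show (D.lift O'.unop.2 _ (D.map_le O'.unop.1)).comp (res Xh hle) =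
      (res D.Z hW).comp (D.lift O.unop.2 _ (D.map_le O.unop.1))
    rw [res_lift, ← D.lift_nat O.unop.2 O'.unop.2 hle]

/-- The map of sheaves. -/
noncomputable def cHom :
    Xh.presheaf ⟶ ((TopCat.Sheaf.pushforward CommRingCat D.baseMap).obj D.Z.sheaf).1 :=
  TopCat.Sheaf.restrictHomEquivHom Xh.presheaf _ (isBasis_good D.hh) D.basisHom

/-- As a morphism of presheafed spaces. -/
noncomputable def pshHom : D.Z.toPresheafedSpace ⟶ Xh.toPresheafedSpace := ⟨D.baseMap, D.cHom⟩

theorem cHom_app {O : Opens X.toLocallyRingedSpace} (hO : Good X Y ι O) :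
    (D.cHom.app (op ((Opens.map ι.base).obj O))).hom = D.lift hO _ (D.map_le O) :=
  congrArg CommRingCat.Hom.hom
    (TopCat.Sheaf.extend_hom_app (i := (⟨O, hO⟩ : {O // Good X Y ι O})) Xh.presheaf _ _ D.basisHom)

theorem isLocal (z : D.Z) : IsLocalHom (D.pshHom.stalkMap z).hom := by
  refine ⟨fun t ht => ?_⟩
  obtain ⟨U, hU, s, rfl⟩ := Xh.presheaf.exists_germ_eq (x := D.fn z) t
  obtain ⟨-, ⟨⟨O, hO⟩, rfl⟩, hzO, hOU⟩ :=
    (Opens.isBasis_iff_nbhd.mp (isBasis_good D.hh)) hU
  rw [← TopCat.Presheaf.germ_res_apply Xh.presheaf (homOfLE hOU) (D.fn z) hzO] at ht ⊢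
  generalize Xh.presheaf.map (homOfLE hOU).op s = s' at ht ⊢
  have h1 := PresheafedSpace.stalkMap_germ_apply D.pshHom ((Opens.map ι.base).obj O) z hzO s'
  replace ht : IsUnit (D.Z.presheaf.germ ((Opens.map D.baseMap).obj ((Opens.map ι.base).obj O))
      z hzO (D.cHom.app (op ((Opens.map ι.base).obj O)) s')) := h1 ▸ ht
  rw [show D.cHom.app (op ((Opens.map ι.base).obj O)) s' = D.lift hO _ (D.map_le O) s' from
    congr($(D.cHom_app hO) s')] at ht
  refine (Xh.toRingedSpace.mem_basicOpen s' _ hzO).mp ?_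
  by_contra hn
  have hgz : D.g.base z ∈ O := D.map_le O hzO
  have hz0 := (hO.eq_zero_iff D.hh hzO ((ev D.Z z hzO).comp (D.lift hO _ (D.map_le O))) hgz
    (D.ι_fn z).symm (LocallyRingedSpace.residueFieldMap D.g z).hom (by
      rw [RingHom.comp_assoc, lift_spec, ev_appLE]) s').mpr hn
  exact (ev_eq_zero (x := z) hzO _).mp hz0 ((D.Z.toRingedSpace.mem_basicOpen _ z hzO).mpr ht)

/-- The morphism to the Henselization. -/
noncomputable def mor : D.Z ⟶ Xh := ⟨D.pshHom, D.isLocal⟩

theorem appLE_mor {O : Opens X.toLocallyRingedSpace} (hO : Good X Y ι O) (W : Opens D.Z)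
    (e : W ≤ (Opens.map D.mor.base).obj ((Opens.map ι.base).obj O)) :
    appLE D.mor ((Opens.map ι.base).obj O) W e = D.lift hO W (le_trans e (D.map_le O)) := by
  show (res D.Z e).comp (D.cHom.app (op ((Opens.map ι.base).obj O))).hom = _
  rw [cHom_app D hO]
  exact D.res_lift hO (D.map_le O) e

theorem mor_comp : D.mor ≫ ι = D.g := by
  refine hom_ext_basis (ι := Opens X.toLocallyRingedSpace) (B := id) ?_ ?_ fun U W e₁ e₂ => ?_
  · exact TopCat.ext D.ι_fn
  · rw [Opens.isBasis_iff_nbhd]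
    exact fun {U x} hx => ⟨U, ⟨U, rfl⟩, hx, le_rfl⟩
  refine RingHom.ext fun s => ?_
  let κ := {O : Opens X.toLocallyRingedSpace // O ≤ U ∧ Good X Y ι O}
  refine D.Z.sheaf.eq_of_locally_eq'
    (fun O : κ => W ⊓ (Opens.map D.g.base).obj O.1) W (fun O => homOfLE inf_le_left) ?_ _ _
    fun O => ?_
  · intro z hz
    obtain ⟨O, hzO, hle', hO⟩ := exists_good D.hh (D.hg ⟨z, rfl⟩) U (e₂ hz)
    exact Opens.mem_iSup.mpr ⟨⟨O, hle', hO⟩, hz, hzO⟩
  · have hW : W ⊓ (Opens.map D.g.base).obj O.1 ≤ W := inf_le_left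
    have e₃ : W ⊓ (Opens.map D.g.base).obj O.1 ≤
        (Opens.map D.mor.base).obj ((Opens.map ι.base).obj O.1) := fun z hz => by
      show ι.base (D.fn z) ∈ O.1
      rw [D.ι_fn z]
      exact hz.2
    show ((res D.Z hW).comp (appLE (D.mor ≫ ι) U W e₁)) s =
      ((res D.Z hW).comp (appLE D.g U W e₂)) s
    rw [res_appLE, res_appLE, ← appLE_res (D.mor ≫ ι) O.2.1 e₃,
      ← appLE_res D.g O.2.1 inf_le_right, appLE_comp D.mor ι e₃ le_rfl e₃,
      appLE_mor D O.2.2, lift_spec]

theorem mor_unique (g' : D.Z ⟶ Xh) (h : g' ≫ ι = D.g) : g' = D.mor := by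
  have hb : ∀ z, g'.base z = D.mor.base z := fun z => D.hh.2.1.injective (by
    show ι.base (g'.base z) = ι.base (D.fn z)
    rw [D.ι_fn, ← h]
    rfl)
  refine hom_ext_basis (TopCat.ext hb) (isBasis_good D.hh) fun O W e₁ e₂ => ?_
  rw [appLE_mor D O.2]
  refine D.lift_uniq O.2 W _ ?_
  rw [← appLE_comp g' ι e₁ le_rfl e₁]
  exact appLE_congr h _ _ _ _

end UnivData

end Groth.Agent.HensSchH7
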